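import Cfsg.Agent.Lib.RegularTwoSizes.Count
import Cfsg.Agent.Lib.Coprime
import Cfsg.Agent.Lib.PRegularClass
import Cfsg.Agent.Lib.ZJ.Complement

/-!
No prime other than `p` divides the class size: the `p`-elements fusing into a centralizer lie in the `p`-core,
and with trivial `p`-core the elements of the group cannot be counted.
-/

set_option autoImplicit false

namespace CfsgLib.RegularTwoSizes

open Subgroup
open CfsgLib.ClassPiCount

variable {G : Type*} [Group G] {p m : ℕ}

theorem isPiEl_iff_reg (hp : p.Prime) {g : G} : IsPiEl ({p}ᶜ : Set ℕ) g ↔ Reg p g := by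
  constructor
  · intro h
    exact (hp.coprime_iff_not_dvd.2 fun hd => (h p hp hd) rfl).symm
  · intro h q _ hd hqp
    rw [Set.mem_singleton_iff] at hqp
    subst hqp
    exact hp.coprime_iff_not_dvd.1 h.symm hd

theorem isPiEl_iff_qel [Finite G] (hp : p.Prime) {g : G} : IsPiEl ({p} : Set ℕ) g ↔ IsQEl p g := by
  constructor
  · intro h
    have he := Nat.eq_prime_pow_of_unique_prime_dvd (orderOf_pos g).ne' fun {q} hq hd => h q hq hd
    exact ⟨_, by rw [← he, pow_orderOf_eq_one]⟩
  · intro h q hq hd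
    obtain ⟨i, hi⟩ := h.orderOf_eq hp
    exact (Nat.prime_dvd_prime_iff_eq hq hp).1 (hq.dvd_of_dvd_pow (hi ▸ hd))

theorem not_dvd_index_of_pow_dvd [Finite G] {q : ℕ} (hq : q.Prime) {N : Subgroup G}
    (h : q ^ (Nat.card G).factorization q ∣ Nat.card N) : ¬ q ∣ N.index := by
  intro hd
  have h2 := mul_dvd_mul h hd
  rw [← pow_succ, card_mul_index] at h2
  have := (Nat.Prime.pow_dvd_iff_le_factorization hq Nat.card_pos.ne').1 h2
  omega

theorem exists_central_mod [Finite G] {r : ℕ} [Fact r.Prime] {R : Subgroup G} (hR : IsPGroup r R)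
    (hne : ¬ R ≤ center G) :
    ∃ a ∈ R, a ∉ center G ∧ ∀ s ∈ R, proj (s * a * s⁻¹) = proj a := by
  haveI : Nontrivial ↥(R.map proj) := by
    rw [Subgroup.nontrivial_iff_ne_bot]
    intro h
    refine hne fun g hg => proj_eq_one.1 ?_
    exact (Subgroup.eq_bot_iff_forall _).1 h _ (Subgroup.mem_map_of_mem proj hg)
  haveI := (hR.map proj).center_nontrivial
  obtain ⟨⟨⟨c, hc⟩, hcc⟩, hcne⟩ := exists_ne (1 : center ↥(R.map proj))
  obtain ⟨a, ha, rfl⟩ := hc
  refine ⟨a, ha, fun h => hcne (Subtype.ext (Subtype.ext (proj_eq_one.2 h))), fun s hs => ?_⟩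
  have h := congrArg Subtype.val
    (Subgroup.mem_center_iff.1 hcc ⟨proj s, Subgroup.mem_map_of_mem proj hs⟩)
  have h' : proj s * proj a = proj a * proj s := h
  rw [map_mul, map_mul, map_inv, h', mul_inv_cancel_right]

variable [Finite G] (H : Hyp G p m)
include H

theorem self_pow_reg_part {g : G} : ∃ b a : G, IsQEl p b ∧ Reg p a ∧ b * a = g ∧ Commute b a ∧
    b ∈ zpowers g ∧ a ∈ zpowers g := by
  obtain ⟨i, j, hi, hj, hij⟩ := exists_parts ({p} : Set ℕ) g
  exact ⟨g ^ i, g ^ j, (isPiEl_iff_qel H.prime).1 hi, (isPiEl_iff_reg H.prime).1 hj, hij,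
    Commute.pow_pow_self g i j, npow_mem_zpowers g i, npow_mem_zpowers g j⟩

theorem odd_mem_cz (h2 : NCP p 2 G) (h2m : 2 ∣ m) {x g : G} (hx : NC p x) (hg : g ∈ nz x)
    (ho : Odd (orderOf g)) : g ∈ cz x := by
  obtain ⟨t, ht⟩ := ho
  have hge : g = (g * g) ^ (t + 1) := by
    rw [← pow_two, ← pow_mul, show 2 * (t + 1) = orderOf g + 1 by omega, pow_succ, pow_orderOf_eq_one, one_mul]
  rw [hge]
  exact pow_mem ((mul_mem_of_two H h2 h2m hx).1 g hg) _

theorem card_nz (h2 : NCP p 2 G) (h2m : 2 ∣ m) {x : G} (hx : NC p x) :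
    Nat.card (nz x) = 2 * Nat.card (cz x) := by
  obtain ⟨u, -, hun, hux, -⟩ := exists_normalizing H h2 h2m hx
  obtain ⟨hsq, hmul⟩ := mul_mem_of_two H h2 h2m hx
  have hle : cz x ≤ nz x := Subgroup.le_normalizer
  have hi : ((cz x).subgroupOf (nz x)).index = 2 := by
    rw [Subgroup.index_eq_two_iff]
    refine ⟨⟨u, hun⟩, fun b => ?_⟩
    simp only [mem_subgroupOf]
    by_cases hb : (b : G) ∈ cz x
    · exact Or.inr ⟨hb, fun h => hux ((Subgroup.mul_mem_cancel_left _ hb).1 h)⟩
    · exact Or.inl ⟨hmul _ _ b.2 hun hb hux, hb⟩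
  rw [← ((cz x).subgroupOf (nz x)).index_mul_card, hi, Nat.card_congr (subgroupOfEquivOfLe hle).toEquiv]

/-- The `p`-elements commuting with a noncentral `p`-regular element lie in the `p`-core. -/
theorem mem_pCore_of_mem_cz (h2p : p ≠ 2) (h2 : NCP p 2 G) (h2m : 2 ∣ m) {x b : G} (hx : NC p x)
    (hb : b ∈ cz x) (hbp : IsQEl p b) : b ∈ Cfsg.pCore p G := by
  haveI := Fact.mk H.prime
  obtain ⟨R⟩ : Nonempty (Sylow p ↥(cz x)) := inferInstance
  have hNtop : normalizer ((R : Subgroup ↥(cz x)) : Set ↥(cz x)) = ⊤ := by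
    rw [← index_eq_one]
    by_contra hne
    obtain ⟨q, hq, hqd⟩ := Nat.exists_prime_and_dvd hne
    by_cases hqp : q = p
    · subst hqp
      exact R.not_dvd_index (hqd.trans (index_dvd_of_le Subgroup.le_normalizer))
    · refine not_dvd_index_of_pow_dvd hq ?_ hqd
      rw [← card_qpart H hq hqp hx,
        ← Nat.card_congr (subgroupOfEquivOfLe (show qpart q x ≤ cz x from fun g hg => hg.1)).toEquiv]
      refine card_dvd_of_le fun g hg => ?_
      rw [mem_subgroupOf] at hg
      rw [Subgroup.mem_normalizer_iff]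
      intro k
      have : g * k * g⁻¹ = k := Subtype.ext (by
        show (g : G) * k * (g : G)⁻¹ = k
        rw [← Subgroup.mem_centralizer_iff.1 hg.2.1 k k.2, mul_inv_cancel_right])
      rw [this]
  haveI : (R : Subgroup ↥(cz x)).Normal := normalizer_eq_top_iff.1 hNtop
  haveI : Subsingleton (Sylow p ↥(cz x)) := by
    have := Sylow.unique_of_normal R inferInstance
    infer_instance
  set P₀ : Subgroup G := (R : Subgroup ↥(cz x)).map (cz x).subtype with hP₀def
  have hmemP₀ : ∀ c : G, c ∈ cz x → IsQEl p c → c ∈ P₀ := by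
    intro c hc hcp
    obtain ⟨i, hi⟩ := hcp.orderOf_eq H.prime
    have hz : IsPGroup p (zpowers (⟨c, hc⟩ : ↥(cz x))) :=
      IsPGroup.of_card (n := i) (by rw [Nat.card_zpowers, ← orderOf_coe, hi])
    obtain ⟨R', hR'⟩ := hz.exists_le_sylow
    exact ⟨_, Subsingleton.elim R' R ▸ hR' (mem_zpowers _), rfl⟩
  have hP₀ : IsPGroup p P₀ := R.2.map _
  have hconj : ∀ k ∈ nz x, ∀ c ∈ P₀, k * c * k⁻¹ ∈ P₀ := fun k hk c hc => by
    refine hmemP₀ _ (conj_mem_cz H hk ?_) ((IsQEl.of_mem hP₀ hc).conj k)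
    obtain ⟨c', -, rfl⟩ := hc
    exact c'.2
  obtain ⟨P, hP⟩ := hP₀.exists_le_sylow
  obtain ⟨e, he⟩ := index_nz_pow H hx
  have hcov : Function.Surjective fun v : ↥(P : Subgroup G) ⧸ (nz x).subgroupOf (P : Subgroup G) =>
      (QuotientGroup.mk (v.out : G) : G ⧸ nz x) := by
    have hinj : Function.Injective fun v : ↥(P : Subgroup G) ⧸ (nz x).subgroupOf (P : Subgroup G) =>
        (QuotientGroup.mk (v.out : G) : G ⧸ nz x) := by
      intro c d hcd
      rw [← QuotientGroup.out_eq' c, ← QuotientGroup.out_eq' d]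
      refine QuotientGroup.eq.2 ?_
      rw [mem_subgroupOf]
      exact QuotientGroup.eq.1 hcd
    refine ((Nat.bijective_iff_injective_and_card _).2 ⟨hinj, le_antisymm (Nat.card_le_card_of_injective _ hinj) ?_⟩).2
    rw [← Subgroup.index, ← Subgroup.index, he]
    set S := (nz x).subgroupOf (P : Subgroup G)
    obtain ⟨s, hs⟩ := (P.2.to_subgroup S).exists_card_eq
    have h1 : p ^ s ∣ 2 * Nat.card (cz x) := by
      rw [← hs, ← card_nz H h2 h2m hx,
        ← Subgroup.card_map_of_injective (P : Subgroup G).subtype_injective]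
      exact card_dvd_of_le (fun g hg => by obtain ⟨g', hg', rfl⟩ := hg; exact hg')
    have h2' : p ^ s ∣ Nat.card (cz x) :=
      (((Nat.coprime_primes H.prime Nat.prime_two).2 h2p).pow_left s).dvd_of_dvd_mul_left h1
    have h3 := (Nat.Prime.pow_dvd_iff_le_factorization H.prime Nat.card_pos.ne').1 h2'
    have h4 : (Nat.card G).factorization p = (Nat.card (cz x)).factorization p + e := by
      rw [← (nz x).card_mul_index, he, card_nz H h2 h2m hx,
        Nat.factorization_mul (mul_ne_zero two_ne_zero Nat.card_pos.ne') (pow_ne_zero _ H.prime.ne_zero),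
        Finsupp.add_apply, Nat.factorization_mul two_ne_zero Nat.card_pos.ne', Finsupp.add_apply,
        Nat.factorization_eq_zero_of_not_dvd (n := 2)
          (fun hd => h2p ((Nat.prime_dvd_prime_iff_eq H.prime Nat.prime_two).1 hd)),
        H.prime.factorization_pow, Finsupp.single_eq_same, zero_add]
    have h5 := S.index_mul_card
    rw [hs, P.card_eq_multiplicity, h4, pow_add] at h5
    refine Nat.le_of_mul_le_mul_right ?_ (pow_pos H.prime.pos s)
    rw [h5, mul_comm (p ^ (Nat.card (cz x)).factorization p)]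
    exact Nat.mul_le_mul_left _ (Nat.pow_le_pow_right H.prime.pos h3)
  have hle : Subgroup.normalClosure (P₀ : Set G) ≤ (P : Subgroup G) := by
    refine (Subgroup.closure_le _).2 fun c hc => ?_
    obtain ⟨a, ha, hac⟩ := Group.mem_conjugatesOfSet_iff.1 hc
    obtain ⟨g, rfl⟩ := isConj_iff.1 hac
    obtain ⟨v, hv⟩ := hcov (QuotientGroup.mk g)
    have hk : (v.out : G)⁻¹ * g ∈ nz x := QuotientGroup.eq.1 hv
    have h := hP (hconj _ hk a ha)
    have he' : g * a * g⁻¹ = (v.out : G) * (((v.out : G)⁻¹ * g) * a * ((v.out : G)⁻¹ * g)⁻¹) * (v.out : G)⁻¹ := by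
      group
    rw [SetLike.mem_coe, he']
    exact mul_mem (mul_mem v.out.2 h) (inv_mem v.out.2)
  exact CfsgLib.le_pCore (P.2.to_le hle) (Subgroup.subset_normalClosure (hmemP₀ b hb hbp))

/-- An odd order subgroup has a normal `p`-subgroup containing all its `p`-elements. -/
theorem exists_p_subgroup_of_odd (h2 : NCP p 2 G) (h2m : 2 ∣ m) {K : Subgroup G} (hK : Odd (Nat.card K)) :
    ∃ M : Subgroup G, IsPGroup p M ∧ ∀ b ∈ K, IsQEl p b → b ∈ M := by
  classical
  have hodd : ∀ g ∈ K, Odd (orderOf g) := fun g hg =>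
    hK.of_dvd_nat (Subgroup.orderOf_dvd_natCard K hg)
  have key : ∀ r : ℕ, ∃ N : Subgroup ↥K, (∀ b : ↥K, IsQEl p (b : G) → b ∈ N) ∧
      (r.Prime → r ≠ p → ¬ r ∣ Nat.card N) := by
    intro r
    by_cases hr : r.Prime ∧ r ≠ p ∧ r ∣ Nat.card K
    swap
    · exact ⟨⊤, fun b _ => mem_top b, fun h1 h2' h3 => hr ⟨h1, h2', by simpa using h3⟩⟩
    obtain ⟨hrp, hrne, hrK⟩ := hr
    haveI := Fact.mk hrp
    have hr2 : r ≠ 2 := fun e => by
      subst e
      exact Nat.not_even_iff_odd.2 hK (even_iff_two_dvd.2 hrK)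
    have hrm : ¬ r ∣ m := not_dvd_odd H hrp hr2 hrne
    obtain ⟨R⟩ : Nonempty (Sylow r ↥K) := inferInstance
    obtain ⟨N, -, hN, hall⟩ := exists_complement R (fun g hg => by
      set R' := (R : Subgroup ↥K).map K.subtype with hR'
      have hR'p : IsPGroup r R' := R.2.map _
      rw [Subgroup.mem_centralizer_iff]
      intro s hs
      refine Subtype.ext ?_
      show (s : G) * g = g * (s : G)
      by_cases hc : R' ≤ center G
      · exact (Subgroup.mem_center_iff.1 (hc (Subgroup.mem_map_of_mem K.subtype hs)) (g : G)).symm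
      obtain ⟨a, ha, hac, hcen⟩ := exists_central_mod hR'p hc
      have hax : IsQEl r a := IsQEl.of_mem hR'p ha
      have han : NC p a := ⟨reg_of_isQEl H.prime hrp hrne hax, hac⟩
      have hRcz : ∀ w ∈ R', w ∈ qpart r a := fun w hw => by
        refine mem_qpart H hrp hrne han ?_ (IsQEl.of_mem hR'p hw)
        obtain ⟨w', hw', rfl⟩ := hw
        exact odd_mem_cz H h2 h2m han (mem_nz_of_proj H han (hcen _ ⟨w', hw', rfl⟩)) (hodd _ w'.2)
      obtain ⟨a', ha', rfl⟩ := ha
      have hgc : (g : G) ∈ cz (a' : G) := by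
        refine odd_mem_cz H h2 h2m han (mem_nz_of_conj H han han (self_mem_cz _) ?_) (hodd _ g.2)
        exact (hRcz _ ⟨g * a' * g⁻¹, (Subgroup.mem_normalizer_iff.1 hg a').1 ha', rfl⟩).1
      exact ((Subgroup.mem_centralizer_iff.1 (hRcz _ (Subgroup.mem_map_of_mem K.subtype hs)).2.1 _ hgc)).symm)
    refine ⟨N, fun b hb => hall b ?_, fun _ _ => hN⟩
    rw [← orderOf_coe]
    obtain ⟨i, hi⟩ := hb.orderOf_eq H.prime
    rw [hi]
    exact ((Nat.coprime_primes H.prime hrp).2 (Ne.symm hrne)).pow_left i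
  choose N hN1 hN2 using key
  refine ⟨(⨅ r, N r).map K.subtype, IsPGroup.map ?_ _, fun b hb hbp =>
    ⟨⟨b, hb⟩, Subgroup.mem_iInf.2 fun r => hN1 r ⟨b, hb⟩ hbp, rfl⟩⟩
  refine IsPGroup.of_card (Nat.eq_prime_pow_of_unique_prime_dvd Nat.card_pos.ne' fun {q} hq hd => ?_)
  by_contra hne
  exact hN2 q hq hne (hd.trans (card_dvd_of_le (iInf_le N q)))

/-- With trivial `p`-core, the normalizer of a nontrivial `p`-subgroup has all its `p`-elements in one
`p`-subgroup. -/
theorem exists_p_subgroup (h2p : p ≠ 2) (h2 : NCP p 2 G) (h2m : 2 ∣ m)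
    (hfree : ∀ y b : G, NC p y → IsQEl p b → b ∈ cz y → b = 1) {D : Subgroup G} (hD : IsPGroup p D)
    (hne : D ≠ ⊥) :
    ∃ M : Subgroup G, IsPGroup p M ∧ ∀ b ∈ normalizer (D : Set G), IsQEl p b → b ∈ M := by
  haveI := Fact.mk H.prime
  haveI : Fact (Nat.Prime 2) := ⟨Nat.prime_two⟩
  set N₀ : Subgroup G := normalizer (D : Set G) with hN₀
  -- a nontrivial element central in `D`
  haveI : Nontrivial ↥D := (Subgroup.nontrivial_iff_ne_bot D).2 hne
  haveI := hD.center_nontrivial
  obtain ⟨⟨⟨a, haD⟩, hac⟩, hane⟩ := exists_ne (1 : center ↥D)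
  have ha1 : a ≠ 1 := fun e => hane (Subtype.ext (Subtype.ext e))
  have hacomm : ∀ d ∈ D, d * a = a * d := fun d hd =>
    congrArg Subtype.val (Subgroup.mem_center_iff.1 hac ⟨d, hd⟩)
  have hinvert : ∀ k ∈ N₀, NC p k → k * k ∈ center G → k * a * k⁻¹ = a⁻¹ := by
    intro k hk hkn hk2
    have hka : k * a * k⁻¹ ∈ D := (Subgroup.mem_normalizer_iff.1 hk a).1 haD
    have hy : a * (k * a * k⁻¹) ∈ D := mul_mem haD hka
    have hfix : k * (a * (k * a * k⁻¹)) * k⁻¹ = a * (k * a * k⁻¹) := by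
      calc k * (a * (k * a * k⁻¹)) * k⁻¹ = k * a * k⁻¹ * (k * k * a * (k * k)⁻¹) := by group
        _ = k * a * k⁻¹ * a := by rw [← Subgroup.mem_center_iff.1 hk2 a, mul_inv_cancel_right]
        _ = a * (k * a * k⁻¹) := hacomm _ hka
    have h1 := hfree k _ hkn (IsQEl.of_mem hD hy) (mem_cz.2 (mul_inv_eq_iff_eq_mul.1 hfix).symm)
    exact eq_inv_of_mul_eq_one_right h1
  obtain ⟨T⟩ : Nonempty (Sylow 2 ↥N₀) := inferInstance
  set T' := (T : Subgroup ↥N₀).map N₀.subtype with hT'
  have hT'p : IsPGroup 2 T' := T.2.map _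
  have hTN : ∀ s ∈ T', s ∈ N₀ := by rintro _ ⟨s, -, rfl⟩; exact s.2
  -- the Sylow 2-subgroup is central in its normalizer
  have hcen : normalizer ((T : Subgroup ↥N₀) : Set ↥N₀) ≤ centralizer ((T : Subgroup ↥N₀) : Set ↥N₀) := by
    intro g hg
    rw [Subgroup.mem_centralizer_iff]
    intro s hs
    refine Subtype.ext ?_
    show (s : G) * g = g * (s : G)
    by_cases hc : T' ≤ center G
    · exact (Subgroup.mem_center_iff.1 (hc (Subgroup.mem_map_of_mem N₀.subtype hs)) (g : G)).symm
    obtain ⟨t, ht, htc, htcen⟩ := exists_central_mod hT'p hc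
    have htel : IsQEl 2 t := IsQEl.of_mem hT'p ht
    have htn : NC p t := ⟨reg_of_isQEl H.prime Nat.prime_two (Ne.symm h2p) htel, htc⟩
    have hTt : ∀ w ∈ T', w ∈ nz t := fun w hw => mem_nz_of_proj H htn (htcen w hw)
    have hsqt := (mul_mem_of_two H h2 h2m htn).1
    have hTcz : ∀ w ∈ T', w ∈ cz t := by
      by_contra hcon
      push Not at hcon
      obtain ⟨w, hw, hwt⟩ := hcon
      have hsquare : ∀ v ∈ T', v ∉ cz t → NC p v ∧ v * v ∈ center G := by
        intro v hv hvt
        have hvel : IsQEl 2 v := IsQEl.of_mem hT'p hv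
        refine ⟨nc_of_notMem_cz H.prime Nat.prime_two (Ne.symm h2p) hvel hvt, ?_⟩
        rw [← pow_two]
        exact pow_mem_center H Nat.prime_two (Ne.symm h2p) htn hvel hvt
          (by rw [pow_two]; exact hsqt v (hTt v hv))
      obtain ⟨hwn, hw2⟩ := hsquare w hw hwt
      obtain ⟨htwn, htw2⟩ := hsquare (t * w) (mul_mem ht hw)
        (fun h => hwt ((Subgroup.mul_mem_cancel_left _ (self_mem_cz t)).1 h))
      have ht2 : t * t ∈ center G := by
        have htw : t ∈ nz w := mem_nz_of_proj H hwn (by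
          have := htcen w hw
          simp only [map_mul, map_inv] at this ⊢
          rw [← mul_inv_eq_iff_eq_mul.1 this, mul_inv_cancel_right])
        have htw' : t ∉ cz w := fun h => hwt (mem_cz_symm h)
        rw [← pow_two]
        exact pow_mem_center H Nat.prime_two (Ne.symm h2p) hwn htel htw'
          (by rw [pow_two]; exact (mul_mem_of_two H h2 h2m hwn).1 t htw)
      have i1 := hinvert t (hTN t ht) htn ht2
      have i2 := hinvert w (hTN w hw) hwn hw2
      have i3 := hinvert (t * w) (hTN _ (mul_mem ht hw)) htwn htw2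
      have h4 : a * a = 1 := by
        have h5 : t * w * a * (t * w)⁻¹ = a := by
          calc t * w * a * (t * w)⁻¹ = t * (w * a * w⁻¹) * t⁻¹ := by group
            _ = (t * a * t⁻¹)⁻¹ := by rw [i2]; group
            _ = a := by rw [i1, inv_inv]
        rw [h5] at i3
        nth_rewrite 1 [i3]
        exact inv_mul_cancel a
      exact ha1 ((IsQEl.of_mem hD haD).eq_one H.prime (by rw [pow_two]; exact h4)
        fun hd => h2p ((Nat.prime_dvd_prime_iff_eq H.prime Nat.prime_two).1 hd))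
    have hTq : ∀ w ∈ T', w ∈ qpart 2 t := fun w hw =>
      mem_qpart H Nat.prime_two (Ne.symm h2p) htn (hTcz w hw) (IsQEl.of_mem hT'p hw)
    -- the normalizing element centralizes `t`
    have hgt : (g : G) ∈ cz t := by
      obtain ⟨t', ht', rfl⟩ := ht
      have hgn : (g : G) ∈ nz (t' : G) := mem_nz_of_conj H htn htn (self_mem_cz _)
        (hTcz _ ⟨g * t' * g⁻¹, (Subgroup.mem_normalizer_iff.1 hg t').1 ht', rfl⟩)
      set o := orderOf g with ho
      have ho0 : o ≠ 0 := (orderOf_pos g).ne'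
      set o' := o / 2 ^ o.factorization 2 with ho'
      have ho'odd : Odd o' := Nat.not_even_iff_odd.1 fun h =>
        Nat.not_dvd_ordCompl Nat.prime_two ho0 h.two_dvd
      have hpow : (g ^ o') ^ 2 ^ o.factorization 2 = 1 := by
        rw [← pow_mul, ho', Nat.div_mul_cancel (Nat.ordProj_dvd o 2), ho, pow_orderOf_eq_one]
      have hz : IsPGroup 2 (zpowers (g ^ o')) := by
        obtain ⟨i, -, hi⟩ := (Nat.dvd_prime_pow Nat.prime_two).1 (orderOf_dvd_of_pow_eq_one hpow)
        exact IsPGroup.of_card (n := i) (by rw [Nat.card_zpowers, hi])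
      have hsup : IsPGroup 2 ↥(zpowers (g ^ o') ⊔ (T : Subgroup ↥N₀)) :=
        hz.to_sup_of_normal_right' T.2 (zpowers_le.2 (pow_mem hg o'))
      have hmem : g ^ o' ∈ (T : Subgroup ↥N₀) := by
        rw [← T.3 hsup le_sup_right]
        exact mem_sup_left (mem_zpowers _)
      obtain ⟨k, hk⟩ := ho'odd
      have h1 : (g : G) ^ o' ∈ cz (t' : G) := hTcz _ ⟨g ^ o', hmem, by simp⟩
      rw [hk, pow_succ, pow_mul, pow_two] at h1
      exact (Subgroup.mul_mem_cancel_left _ (pow_mem (hsqt _ hgn) k)).1 h1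
    exact (Subgroup.mem_centralizer_iff.1 (hTq _ (Subgroup.mem_map_of_mem N₀.subtype hs)).2.1 _ hgt).symm
  obtain ⟨N, -, hN, hall⟩ := exists_complement T hcen
  obtain ⟨M, hM, hMb⟩ := exists_p_subgroup_of_odd H h2 h2m (K := N.map N₀.subtype) (by
    rw [Subgroup.card_map_of_injective N₀.subtype_injective]
    exact Nat.not_even_iff_odd.1 fun h => hN h.two_dvd)
  refine ⟨M, hM, fun b hb hbp => hMb b ⟨⟨b, hb⟩, hall ⟨b, hb⟩ ?_, rfl⟩ hbp⟩
  rw [← orderOf_coe]
  obtain ⟨i, hi⟩ := hbp.orderOf_eq H.prime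
  rw [hi]
  exact ((Nat.coprime_primes H.prime Nat.prime_two).2 h2p).pow_left i

/-- The case of trivial `p`-core. -/
theorem no_two_of_core_bot (h2p : p ≠ 2) (h2m : 2 ∣ m) (hcore : Cfsg.pCore p G = ⊥) : False := by
  classical
  haveI := Fact.mk H.prime
  have h2 := ncp_of_dvd H Nat.prime_two (Ne.symm h2p) h2m
  have hfree : ∀ y b : G, NC p y → IsQEl p b → b ∈ cz y → b = 1 := fun y b hy hb hbc => by
    have := mem_pCore_of_mem_cz H h2p h2 h2m hy hbc hb
    rwa [hcore, mem_bot] at this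
  obtain ⟨x, hx⟩ := exists_nc H
  have hregall : ∀ y g : G, NC p y → g ∈ cz y → Reg p g := by
    intro y g hy hg
    obtain ⟨b, a, hb, ha, he, -, hbg, -⟩ := self_pow_reg_part H (g := g)
    have hb1 := hfree y b hy hb ((zpowers_le.2 hg) hbg)
    rw [hb1, one_mul] at he
    exact he ▸ ha
  set α := Nat.card (regPart p x) with hα
  set z := Nat.card (regCenter p G) with hz
  have hcα : Nat.card (cz x) = α := by
    rw [hα, le_antisymm (show regPart p x ≤ cz x from fun g hg => hg.1)
      (fun g hg => mem_regPart H hx hg (hregall x g hx hg))]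
  obtain ⟨e, he⟩ := index_nz_pow H hx
  set n := (nz x).index with hn
  have hG : Nat.card G = 2 * α * n := by rw [← (nz x).card_mul_index, card_nz H h2 h2m hx, hcα]
  have hzα : z ≤ α := Nat.le_of_dvd Nat.card_pos (card_dvd_of_le (regCenter_le p x))
  have hpα : ¬ p ∣ α := not_dvd_card_regPart H x
  have hp2 : ¬ p ∣ 2 := fun hd => h2p ((Nat.prime_dvd_prime_iff_eq H.prime Nat.prime_two).1 hd)
  have hvG : (Nat.card G).factorization p = e := by
    rw [hG, he, Nat.factorization_mul (mul_ne_zero two_ne_zero Nat.card_pos.ne') (pow_ne_zero _ H.prime.ne_zero),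
      Finsupp.add_apply, Nat.factorization_mul two_ne_zero Nat.card_pos.ne', Finsupp.add_apply,
      Nat.factorization_eq_zero_of_not_dvd hp2, Nat.factorization_eq_zero_of_not_dvd hpα,
      H.prime.factorization_pow, Finsupp.single_eq_same, zero_add, zero_add]
  -- the number of `p`-elements
  set PG := Nat.card {b : G // IsQEl p b} with hPG
  have hcount : z * PG + n * (α - z) = Nat.card G := by
    have hnc := card_nc H hx
    rw [← hn, ← hα, ← hz] at hnc
    rw [hz, hPG, ← Nat.card_prod, ← hnc, ← Nat.card_sum]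
    refine Nat.card_eq_of_bijective (fun s : (↥(regCenter p G) × {b : G // IsQEl p b}) ⊕ {y : G // NC p y} =>
      Sum.elim (fun ab => (ab.2 : G) * ab.1) (fun y => (y : G)) s) ⟨?_, ?_⟩
    · have uniq : ∀ b a b' a' : G, IsQEl p b → Reg p a → Commute b a → IsQEl p b' → Reg p a' →
          Commute b' a' → b * a = b' * a' → b = b' ∧ a = a' := fun b a b' a' hb ha hc hb' ha' hc' h =>
        unique_parts ((isPiEl_iff_qel H.prime).2 hb) ((isPiEl_iff_reg H.prime).2 ha) hc
          ((isPiEl_iff_qel H.prime).2 hb') ((isPiEl_iff_reg H.prime).2 ha') hc' h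
      have hcm : ∀ (a : ↥(regCenter p G)) (b : G), Commute b a := fun a b =>
        Subgroup.mem_center_iff.1 a.2.1 b
      rintro (⟨a, b⟩ | y) (⟨a', b'⟩ | y') h
      · obtain ⟨h1, h2'⟩ := uniq _ _ _ _ b.2 a.2.2 (hcm a b) b'.2 a'.2.2 (hcm a' b') h
        rw [Subtype.ext h1, Subtype.ext h2']
      · obtain ⟨-, h2'⟩ := uniq _ _ 1 (y' : G) b.2 a.2.2 (hcm a b) (IsQEl.one p) y'.2.1 (Commute.one_left _)
          (by rw [one_mul]; exact h)
        exact absurd (h2' ▸ a.2.1) y'.2.2
      · obtain ⟨-, h2'⟩ := uniq _ _ 1 (y : G) b'.2 a'.2.2 (hcm a' b') (IsQEl.one p) y.2.1 (Commute.one_left _)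
          (by rw [one_mul]; exact h.symm)
        exact absurd (h2' ▸ a'.2.1) y.2.2
      · rw [Subtype.ext h]
    · intro g
      obtain ⟨b, a, hb, ha, hba, hcomm, -, -⟩ := self_pow_reg_part H (g := g)
      by_cases hac : a ∈ center G
      · exact ⟨Sum.inl (⟨a, hac, ha⟩, ⟨b, hb⟩), hba⟩
      · refine ⟨Sum.inr ⟨a, ha, hac⟩, ?_⟩
        have hb1 := hfree a b ⟨ha, hac⟩ hb (mem_cz.2 hcomm)
        rw [hb1, one_mul] at hba
        exact hba
  have hzPG : z * PG = n * (α + z) := by
    obtain ⟨d, hd⟩ := Nat.le.dest hzα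
    rw [hG, ← hd, show z + d - z = d by omega] at hcount
    rw [← hd]
    nlinarith
  obtain ⟨P⟩ : Nonempty (Sylow p G) := inferInstance
  have hcardP : ∀ Q : Sylow p G, Nat.card (Q : Subgroup G) = n := fun Q => by
    rw [Q.card_eq_multiplicity, hvG, he]
  by_cases hTI : ∀ Q R : Sylow p G, Q ≠ R → (Q : Subgroup G) ⊓ (R : Subgroup G) = ⊥
  · -- trivial intersections
    set np := Nat.card (Sylow p G) with hnp
    have hPGcount : PG = np * (n - 1) + 1 := by
      haveI := Fintype.ofFinite (Sylow p G)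
      have h1 : Nat.card {b : G // IsQEl p b ∧ b ≠ 1} = np * (n - 1) := by
        have hsig : Nat.card (Σ Q : Sylow p G, {b : G // b ∈ (Q : Subgroup G) ∧ b ≠ 1}) = np * (n - 1) := by
          rw [Nat.card_sigma, Finset.sum_eq_multiset_sum]
          have hc : ∀ Q : Sylow p G, Nat.card {b : G // b ∈ (Q : Subgroup G) ∧ b ≠ 1} = n - 1 := fun Q => by
            rw [show Nat.card {b : G // b ∈ (Q : Subgroup G) ∧ b ≠ 1} =
              (((Q : Subgroup G) : Set G) \ {1}).ncard from Nat.card_coe_set_eq _,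
              Set.ncard_sdiff_singleton_of_mem (one_mem (Q : Subgroup G))]
            show Nat.card (Q : Subgroup G) - 1 = n - 1
            rw [hcardP Q]
          simp [hc, hnp, Nat.card_eq_fintype_card]
        rw [← hsig]
        refine (Nat.card_eq_of_bijective (fun s : Σ Q : Sylow p G, {b : G // b ∈ (Q : Subgroup G) ∧ b ≠ 1} =>
          (⟨s.2, IsQEl.of_mem s.1.2 s.2.2.1, s.2.2.2⟩ : {b : G // IsQEl p b ∧ b ≠ 1})) ⟨?_, ?_⟩).symm
        · rintro ⟨Q, b, hbQ, hb1⟩ ⟨R, c, hcR, hc1⟩ hbc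
          have hbc' : b = c := congrArg Subtype.val hbc
          subst hbc'
          have hQR : Q = R := by
            by_contra hne
            exact hb1 (mem_bot.1 (hTI Q R hne ▸ (⟨hbQ, hcR⟩ : b ∈ (Q : Subgroup G) ⊓ (R : Subgroup G))))
          subst hQR
          rfl
        · rintro ⟨b, hb, hb1⟩
          obtain ⟨i, hi⟩ := hb.orderOf_eq H.prime
          have hzp : IsPGroup p (zpowers b) := IsPGroup.of_card (n := i) (by rw [Nat.card_zpowers, hi])
          obtain ⟨Q, hQ⟩ := hzp.exists_le_sylow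
          exact ⟨⟨Q, b, hQ (mem_zpowers b), hb1⟩, rfl⟩
      rw [← h1, hPG]
      have h2' : Nat.card {b : G // IsQEl p b ∧ b ≠ 1} = ({b : G | IsQEl p b} \ {1}).ncard :=
        Nat.card_coe_set_eq _
      rw [h2', Set.ncard_sdiff_singleton_add_one (show (1 : G) ∈ {b : G | IsQEl p b} from IsQEl.one p)]
      rfl
    have hdvd : z * np ∣ 2 * α := by
      have hsup : n * z ∣ Nat.card ↥(normalizer ((P : Subgroup G) : Set G)) := by
        refine Nat.Coprime.mul_dvd_of_dvd_of_dvd ?_ (hcardP P ▸ card_dvd_of_le Subgroup.le_normalizer)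
          (card_dvd_of_le fun g hg => Subgroup.mem_normalizer_iff.2 fun k => by
            rw [← Subgroup.mem_center_iff.1 hg.1 k, mul_inv_cancel_right])
        rw [he]
        exact (H.prime.coprime_iff_not_dvd.2 fun hd => hpα (hd.trans (card_dvd_of_le (regCenter_le p x)))).pow_left e
      have hidx : (normalizer ((P : Subgroup G) : Set G)).index = np := by
        rw [hnp, P.card_eq_index_normalizer]
        rfl
      obtain ⟨c, hc⟩ := hsup
      have h1 := (normalizer ((P : Subgroup G) : Set G)).card_mul_index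
      rw [hidx, hc, hG] at h1
      refine ⟨c, Nat.eq_of_mul_eq_mul_right (he ▸ pow_pos H.prime.pos e : 0 < n) ?_⟩
      rw [← h1]
      ring
    have hα0 : 0 < α := Nat.card_pos
    have hz0 : 0 < z := Nat.card_pos
    have hα3 : 3 * z ≤ α := by
      obtain ⟨k, hk⟩ := card_dvd_of_le (regCenter_le p x)
      rw [← hα, ← hz] at hk
      by_contra hlt
      have hk3 : k ≤ 2 := by nlinarith
      obtain ⟨r, hr2, hr⟩ := H.two 2
      obtain ⟨a, ha, han⟩ := exists_mem_qpart H hr hx
      haveI : IsMulCommutative ↥(regPart p x) :=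
        ⟨⟨fun a b => Subtype.ext (Subgroup.mem_centralizer_iff.1 b.2.2.1 a a.2.1)⟩⟩
      haveI : ((regCenter p G).subgroupOf (regPart p x)).Normal := ⟨fun c hc g => by
        rw [mul_comm' g c, mul_inv_cancel_right]; exact hc⟩
      have hidx : ((regCenter p G).subgroupOf (regPart p x)).index = k := by
        have h1 := ((regCenter p G).subgroupOf (regPart p x)).index_mul_card
        rw [Nat.card_congr (subgroupOfEquivOfLe (regCenter_le p x)).toEquiv, ← hα, ← hz, hk, mul_comm z] at h1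
        exact Nat.eq_of_mul_eq_mul_right hz0 h1
      have hmem : (⟨a, ha.1, ha.2.1, han.1⟩ : ↥(regPart p x)) ^ k ∈ (regCenter p G).subgroupOf (regPart p x) :=
        hidx ▸ Subgroup.pow_index_mem _ _
      rw [mem_subgroupOf] at hmem
      have h4 : IsQEl r (proj a) := by
        obtain ⟨j, hj⟩ := ha.2.2
        exact ⟨j, by rw [← map_pow, hj, map_one]⟩
      have hk1 : 0 < k := by
        rcases Nat.eq_zero_or_pos k with rfl | h
        · omega
        · exact h
      refine han.2 (proj_eq_one.1 (h4.eq_one hr.1 (n := k) ?_ ?_))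
      · rw [← map_pow]; exact proj_eq_one.2 hmem.1
      · intro hd
        have := Nat.le_of_dvd hk1 hd
        have := hr.1.two_le
        omega
    rw [hPGcount] at hzPG
    rcases Nat.eq_zero_or_pos e with rfl | he0
    · rw [pow_zero] at he
      rw [he] at hzPG
      simp at hzPG
      omega
    have hn3 : 3 ≤ n := by
      rw [he]
      have := H.prime.two_le
      calc 3 ≤ p := by omega
        _ ≤ p ^ e := Nat.le_self_pow he0.ne' p
    obtain ⟨n', hn'⟩ : ∃ n', n = n' + 1 := ⟨n - 1, by omega⟩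
    rw [hn', Nat.add_sub_cancel] at hzPG
    have hgt : α < z * np := by
      by_contra hle
      push Not at hle
      have := Nat.mul_le_mul_right n' hle
      nlinarith
    obtain ⟨c, hc⟩ := hdvd
    have hc1 : c = 1 := by
      rcases Nat.lt_trichotomy c 1 with h | h | h
      · obtain rfl : c = 0 := by omega
        omega
      · exact h
      · exfalso
        have : z * np * 2 ≤ z * np * c := Nat.mul_le_mul_left _ h
        omega
    subst hc1
    rw [mul_one] at hc
    have h1 : z * (np * n' + 1) = 2 * α * n' + z := by rw [mul_add, ← mul_assoc, ← hc, mul_one]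
    rw [h1] at hzPG
    nlinarith
  · -- a maximal intersection of two Sylow subgroups
    push Not at hTI
    obtain ⟨Q₀, R₀, hne₀, hD₀⟩ := hTI
    haveI : Nonempty {s : Sylow p G × Sylow p G // s.1 ≠ s.2 ∧
        (s.1 : Subgroup G) ⊓ (s.2 : Subgroup G) ≠ ⊥} := ⟨⟨(Q₀, R₀), hne₀, hD₀⟩⟩
    obtain ⟨⟨⟨Q, R⟩, hQR, hD⟩, hmax⟩ := Finite.exists_max
      (fun s : {s : Sylow p G × Sylow p G // s.1 ≠ s.2 ∧ (s.1 : Subgroup G) ⊓ (s.2 : Subgroup G) ≠ ⊥} =>
        Nat.card ↥((s.1.1 : Subgroup G) ⊓ (s.1.2 : Subgroup G)))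
    dsimp only at hQR hD hmax
    set D := (Q : Subgroup G) ⊓ (R : Subgroup G) with hDdef
    have hDp : IsPGroup p D := Q.2.to_le inf_le_left
    obtain ⟨M, hM, hMmem⟩ := exists_p_subgroup H h2p h2 h2m hfree hDp hD
    obtain ⟨S, hS⟩ := hM.exists_le_sylow
    have hcase : ∀ Q' : Sylow p G, D ≤ (Q' : Subgroup G) → D ≠ (Q' : Subgroup G) → Q' = S := by
      intro Q' hDQ hDne
      by_contra hne
      haveI : Group.IsNilpotent ↥(Q' : Subgroup G) := Q'.2.isNilpotent
      have hlt : D.subgroupOf (Q' : Subgroup G) < ⊤ := by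
        rw [lt_top_iff_ne_top, Ne, subgroupOf_eq_top]
        exact fun h => hDne (le_antisymm hDQ h)
      obtain ⟨g, hgn, hgD⟩ := SetLike.exists_of_lt (Group.normalizerCondition_of_isNilpotent _ hlt)
      rw [mem_subgroupOf] at hgD
      have hN : ∀ v ∈ (Q' : Subgroup G), v ∈ normalizer (D : Set G) → v ∈ (S : Subgroup G) := fun v hv hvn =>
        hS (hMmem v hvn (IsQEl.of_mem Q'.2 hv))
      have hDS : ∀ v ∈ D, v ∈ (S : Subgroup G) := fun v hv => hN v (hDQ hv) (Subgroup.le_normalizer hv)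
      have hgS : (g : G) ∈ (S : Subgroup G) := hN _ g.2 (by
        refine Subgroup.mem_normalizer_fintype fun v hv => ?_
        exact (Subgroup.mem_normalizer_iff.1 hgn ⟨v, hDQ hv⟩).1 hv)
      have hlt2 : D < (Q' : Subgroup G) ⊓ (S : Subgroup G) :=
        SetLike.lt_iff_le_and_exists.2 ⟨fun v hv => ⟨hDQ hv, hDS v hv⟩, (g : G), Subgroup.mem_inf.2 ⟨g.2, hgS⟩, hgD⟩
      have h1 := hmax ⟨(Q', S), hne, ne_bot_of_gt hlt2⟩
      dsimp only at h1
      exact absurd (Subgroup.eq_of_le_of_card_ge hlt2.le h1) hlt2.ne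
    have hQS := hcase Q inf_le_left (fun h => hQR (Sylow.ext (R.3 R.2 le_rfl ▸
      (Q.3 R.2 (h ▸ inf_le_right)).symm)))
    have hRS := hcase R inf_le_right (fun h => hQR (Sylow.ext (R.3 Q.2 (h ▸ inf_le_left))))
    exact hQR (hQS.trans hRS.symm)

omit H [Finite G] in
theorem qel_map {G' : Type*} [Group G'] (f : G →* G') {q : ℕ} {y : G} (hy : IsQEl q y) : IsQEl q (f y) := by
  obtain ⟨k, hk⟩ := hy
  exact ⟨k, by rw [← map_pow, hk, map_one]⟩

/-- No prime other than `p` divides the class size. -/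
theorem not_dvd_of_ne {q : ℕ} (hq : q.Prime) (hqp : q ≠ p) : ¬ q ∣ m := by
  intro hqm
  rcases prime_dvd_cases H hq hqm with h | h
  · exact hqp h
  subst h
  have h2p : p ≠ 2 := Ne.symm hqp
  have h2 := ncp_of_dvd H hq hqp hqm
  haveI := Fact.mk H.prime
  haveI : (Cfsg.pCore p G).Normal := inferInstance
  set L := Cfsg.pCore p G with hL
  have hLp : IsPGroup p L := CfsgLib.isPGroup_pCore p
  set π := QuotientGroup.mk' L with hπ
  obtain ⟨x, hx⟩ := exists_nc H
  set α := Nat.card (cz x) / p ^ (Nat.card (cz x)).factorization p with hα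
  obtain ⟨l, hl⟩ := hLp.exists_card_eq
  -- centralizers in the quotient
  have hcz : ∀ y : G, NC p y → cz (π y) = (cz y).map π := by
    intro y hy
    apply le_antisymm
    · intro g' hg'
      obtain ⟨g, rfl⟩ := QuotientGroup.mk'_surjective L g'
      have hcopA : (Nat.card (zpowers y)).Coprime (Nat.card L) := by
        rw [Nat.card_zpowers, hl]; exact hy.1.pow_right l
      have hAW : zpowers y ≤ normalizer (L : Set G) := by
        rw [normalizer_eq_top_iff.2 inferInstance]; exact le_top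
      have hsol : Group.IsSolvable ↥(zpowers y) := inferInstance
      have hgy : π g * π y = π y * π g := mem_cz.1 hg'
      obtain ⟨w, hw, hwA⟩ := CfsgLib.coprime_key_normalize hcopA (Or.inl hsol) hAW (k := g) (by
        intro a ha
        obtain ⟨i, rfl⟩ := mem_zpowers_iff.1 ha
        have h1 : (y ^ i)⁻¹ * (g⁻¹ * y ^ i * g) ∈ L := by
          rw [← QuotientGroup.eq_one_iff]
          show π ((y ^ i)⁻¹ * (g⁻¹ * y ^ i * g)) = 1
          have hc : Commute (π g) (π y ^ i) := Commute.zpow_right hgy i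
          simp only [map_mul, map_inv, map_zpow]
          rw [mul_assoc (π g)⁻¹, ← hc.eq, inv_mul_cancel_left, inv_mul_cancel]
        rw [show g⁻¹ * y ^ i * g = y ^ i * ((y ^ i)⁻¹ * (g⁻¹ * y ^ i * g)) by group]
        exact mul_mem (mem_sup_right (zpow_mem (mem_zpowers y) i)) (mem_sup_left h1))
      obtain ⟨i, hi⟩ := mem_zpowers_iff.1 (hwA y (mem_zpowers y))
      have hπw : π w = 1 := (QuotientGroup.eq_one_iff w).2 hw
      have h2' : π (y ^ i) = π y := by
        rw [hi]
        simp only [map_mul, map_inv, hπw, mul_one]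
        rw [hgy, mul_inv_cancel_right]
      have h3 : y⁻¹ * y ^ i ∈ L := QuotientGroup.eq.1 h2'.symm
      have h4 : y⁻¹ * y ^ i = 1 := Subgroup.disjoint_def.1 (Subgroup.disjoint_of_coprime_natCard hcopA)
        (mul_mem (inv_mem (mem_zpowers y)) (zpow_mem (mem_zpowers y) i)) h3
      rw [← inv_mul_eq_one.1 h4] at hi
      exact ⟨g * w, mem_cz.2 (mul_inv_eq_iff_eq_mul.1 hi.symm), by rw [map_mul, hπw, mul_one]⟩
    · rintro _ ⟨g, hg, rfl⟩
      rw [mem_cz, ← map_mul, ← map_mul, mem_cz.1 hg]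
  have hcard : ∀ y : G, NC p y → Nat.card (cz (π y)) = α := by
    intro y hy
    rw [hcz y hy, hα, card_cz_eq H hx hy]
    have hker : Nat.card ↥(L.subgroupOf (cz y)) = p ^ (Nat.card (cz y)).factorization p := by
      obtain ⟨i, hi⟩ := (hLp.comap_of_injective (cz y).subtype (cz y).subtype_injective).exists_card_eq
      have hi' : Nat.card ↥(L.subgroupOf (cz y)) = p ^ i := hi
      obtain ⟨S⟩ : Nonempty (Sylow p ↥(cz y)) := inferInstance
      have h1 : (S : Subgroup ↥(cz y)) ≤ L.subgroupOf (cz y) := fun s hs => by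
        rw [mem_subgroupOf]
        exact mem_pCore_of_mem_cz H h2p h2 hqm hy s.2
          (IsQEl.of_mem (S.2.map (cz y).subtype) ⟨s, hs, rfl⟩)
      have h2' := card_dvd_of_le h1
      rw [S.card_eq_multiplicity, hi'] at h2'
      have h3 := (L.subgroupOf (cz y)).card_subgroup_dvd_card
      rw [hi'] at h3 ⊢
      exact Nat.dvd_antisymm (pow_dvd_pow p ((Nat.Prime.pow_dvd_iff_le_factorization H.prime Nat.card_pos.ne').1 h3)) h2'
    have hf : (π.comp (cz y).subtype).ker = L.subgroupOf (cz y) := by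
      ext g
      rw [MonoidHom.mem_ker, mem_subgroupOf]
      exact QuotientGroup.eq_one_iff (g : G)
    have hr : (π.comp (cz y).subtype).range = (cz y).map π := by
      rw [MonoidHom.range_comp, Subgroup.range_subtype]
    have h := (π.comp (cz y).subtype).ker.index_mul_card
    rw [Subgroup.index_ker, hr, hf, hker] at h
    exact (Nat.div_eq_of_eq_mul_left (pow_pos H.prime.pos _) h.symm).symm
  have hv : (Nat.card (G ⧸ L)).factorization 2 = (Nat.card G).factorization 2 := by
    rw [Subgroup.card_eq_card_quotient_mul_card_subgroup L, Nat.factorization_mul Nat.card_pos.ne'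
      Nat.card_pos.ne', Finsupp.add_apply, hl, Nat.factorization_eq_zero_of_not_dvd (n := p ^ l) (fun hd =>
        h2p ((Nat.prime_dvd_prime_iff_eq Nat.prime_two H.prime).1 (Nat.prime_two.dvd_of_dvd_pow hd)).symm), add_zero]
  have hvα : α.factorization 2 < (Nat.card (G ⧸ L)).factorization 2 := by
    rw [hv, factorization_card H hx, hα]
    have hm := hq.factorization_pos_of_dvd (m_ne_zero H) hqm
    rw [Nat.factorization_div (Nat.ordProj_dvd _ p), Finsupp.tsub_apply]
    omega
  have hncπ : ∀ y : G, NC p y → NC p (π y) := fun y hy => by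
    refine ⟨Nat.Coprime.coprime_dvd_left (orderOf_map_dvd π y) hy.1, fun hc => ?_⟩
    have htop : cz (π y) = ⊤ := eq_top_iff.2 fun g _ => mem_cz_center (x := π y) hc |> fun _ =>
      mem_cz.2 (Subgroup.mem_center_iff.1 hc g)
    have := hcard y hy
    rw [htop, Subgroup.card_top] at this
    rw [this] at hvα
    exact lt_irrefl _ hvα
  have hH : Hyp (G ⧸ L) p (Nat.card (G ⧸ L) / α) := by
    refine ⟨H.prime, fun w hw => ?_, fun q => ?_⟩
    · obtain ⟨y, hyw, hy⟩ := CfsgLib.exists_coprime_preimage H.prime L w hw.1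
      subst hyw
      have hyn : NC p y := ⟨hy, fun hc => hw.2 (Subgroup.mem_center_iff.2 fun g => by
        obtain ⟨g, rfl⟩ := QuotientGroup.mk'_surjective L g
        rw [← map_mul, ← map_mul, Subgroup.mem_center_iff.1 hc g])⟩
      rw [← hcard y hyn, ← (cz (π y)).index_mul_card, Nat.mul_div_cancel _ Nat.card_pos]
    · obtain ⟨r, hrq, hrp, hrne, y, hy, hyc⟩ := H.two q
      exact ⟨r, hrq, hrp, hrne, π y, qel_map π hy,
        (hncπ y ⟨reg_of_isQEl H.prime hrp hrne hy, hyc⟩).2⟩
  refine no_two_of_core_bot hH h2p ?_ CfsgLib.ZJ.pCore_quotient_pCore_eq_bot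
  have hαd : α ∣ Nat.card (G ⧸ L) := hcard x hx ▸ card_subgroup_dvd_card _
  refine Nat.dvd_of_factorization_pos ?_
  rw [Nat.factorization_div hαd, Finsupp.tsub_apply]
  omega

end CfsgLib.RegularTwoSizes
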