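import Cfsg.Agent.Lib.RegularTwoSizes.Basic

/-!
The action of the normalizer of a centralizer: semiregular, hence very restricted.
-/

set_option autoImplicit false

namespace CfsgLib.RegularTwoSizes

open Subgroup
open scoped IsMulCommutative

variable {G : Type*} [Group G] {p m : ℕ}

theorem translate_pow {g b ζ : G} (h : g * b * g⁻¹ = b * ζ) (hζ : ζ ∈ center G) :
    ∀ n : ℕ, g ^ n * b * (g ^ n)⁻¹ = b * ζ ^ n := by
  intro n
  induction n with
  | zero => simp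
  | succ n ih =>
    calc g ^ (n + 1) * b * (g ^ (n + 1))⁻¹ = g * (g ^ n * b * (g ^ n)⁻¹) * g⁻¹ := by rw [pow_succ']; group
      _ = g * (b * ζ ^ n) * g⁻¹ := by rw [ih]
      _ = g * b * g⁻¹ * (g * ζ ^ n * g⁻¹) := by group
      _ = b * ζ ^ (n + 1) := by
        rw [h, Subgroup.mem_center_iff.1 (pow_mem hζ n) g, mul_inv_cancel_right, mul_assoc, pow_succ']

theorem translate_comm_pow {g b ζ : G} (h : g * b * g⁻¹ = b * ζ) (hζ : ζ ∈ center G) {n : ℕ}
    (hn : g ^ n * b = b * g ^ n) : ζ ^ n = 1 := by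
  have h1 := translate_pow h hζ n
  rw [hn, mul_inv_cancel_right] at h1
  exact mul_left_cancel (h1.symm.trans (mul_one b).symm)

theorem translate_pow_exp {g b ζ : G} (h : g * b * g⁻¹ = b * ζ) (hζ : ζ ∈ center G) {n : ℕ}
    (hn : g * b ^ n * g⁻¹ = b ^ n) : ζ ^ n = 1 := by
  rw [← conj_pow, h, (Commute.mul_pow (Subgroup.mem_center_iff.1 hζ b) n)] at hn
  exact mul_left_cancel (hn.trans (mul_one (b ^ n)).symm)

theorem exists_translate {g b : G} (h : proj (g * b * g⁻¹) = proj b) :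
    ∃ ζ ∈ center G, g * b * g⁻¹ = b * ζ :=
  ⟨b⁻¹ * (g * b * g⁻¹), proj_eq.1 h.symm, by group⟩

variable [Finite G] (H : Hyp G p m)
include H

theorem pow_mem_center {q : ℕ} (hq : q.Prime) (hqp : q ≠ p) {x u : G} (hx : NC p x) (hu : IsQEl q u)
    (hux : u ∉ cz x) {n : ℕ} (hn : u ^ n ∈ cz x) : u ^ n ∈ center G := by
  by_contra h
  exact hux (semireg H hx ⟨reg_of_isQEl H.prime hq hqp (hu.pow n), h⟩ hn (Commute.self_pow u n))

theorem exists_normalizing {q : ℕ} (hq : NCP p q G) (hqm : q ∣ m) {x : G} (hx : NC p x) :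
    ∃ u : G, IsQEl q u ∧ u ∈ nz x ∧ u ∉ cz x ∧ u ^ q ∈ center G := by
  classical
  haveI := Fact.mk hq.1
  obtain ⟨Q, hQ⟩ := (isPGroup_qpart q x).exists_le_sylow
  have hlt : (qpart q x).subgroupOf (Q : Subgroup G) < ⊤ := by
    rw [lt_top_iff_ne_top, Ne, subgroupOf_eq_top]
    intro hle
    have h1 := card_dvd_of_le hle
    rw [Q.card_eq_multiplicity, card_qpart H hq.1 hq.2.1 hx] at h1
    have h2 := Nat.pow_dvd_pow_iff_le_right hq.1.one_lt |>.1 h1
    have hm0 : m ≠ 0 := by rw [← H.index_eq x hx]; exact index_ne_zero_of_finite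
    rw [← card_cz H hx, Nat.factorization_mul Nat.card_pos.ne' hm0, Finsupp.add_apply] at h2
    have := hq.1.factorization_pos_of_dvd hm0 hqm
    omega
  haveI : Group.IsNilpotent ↥(Q : Subgroup G) := Q.2.isNilpotent
  obtain ⟨g, hgn, hgA⟩ := SetLike.exists_of_lt (Group.normalizerCondition_of_isNilpotent _ hlt)
  rw [mem_subgroupOf] at hgA
  have hgq : IsQEl q (g : G) := IsQEl.of_mem Q.2 g.2
  obtain ⟨a, ha, han⟩ := exists_mem_qpart H hq hx
  have hgN : (g : G) ∈ nz x := by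
    refine mem_nz_of_conj H hx han ha.1 ?_
    have h := (Subgroup.mem_normalizer_iff.1 hgn ⟨a, hQ ha⟩).1 (show a ∈ qpart q x from ha)
    exact (show (g : G) * a * (g : G)⁻¹ ∈ qpart q x from h).1
  have hgC : (g : G) ∉ cz x := fun h => hgA (mem_qpart H hq.1 hq.2.1 hx h hgq)
  obtain ⟨K, hK⟩ := hgq
  have hex : ∃ k, (g : G) ^ q ^ k ∈ cz x := ⟨K, hK ▸ one_mem _⟩
  have hk0 : Nat.find hex ≠ 0 := fun e => hgC (by simpa [e] using Nat.find_spec hex)
  obtain ⟨j, hj⟩ := Nat.exists_eq_succ_of_ne_zero hk0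
  have hju : (g : G) ^ q ^ j ∉ cz x := Nat.find_min hex (by omega)
  refine ⟨(g : G) ^ q ^ j, IsQEl.pow ⟨K, hK⟩ _, pow_mem hgN _, hju, ?_⟩
  have hmem : ((g : G) ^ q ^ j) ^ q ∈ cz x := by
    rw [← pow_mul, ← pow_succ]
    have := Nat.find_spec hex
    rwa [hj] at this
  exact pow_mem_center H hq.1 hq.2.1 hx (IsQEl.pow ⟨K, hK⟩ _) hju hmem

/-- Two elements of prime order modulo the centralizer, commuting modulo it, generate a cyclic group there. -/
theorem exists_pow_mul_mem {q : ℕ} (hq : q.Prime) {x g h : G} (hx : NC p x) (hg : g ∈ nz x) (hh : h ∈ nz x)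
    (hgx : g ∉ cz x) (hgq : g ^ q ∈ cz x) (hhq : h ^ q ∈ cz x) (hgh : g * h * (h * g)⁻¹ ∈ cz x) :
    ∃ i : ℕ, g ^ i * h ∈ cz x := by
  by_contra hcon
  push Not at hcon
  haveI := Fact.mk hq
  obtain ⟨r, hrq, hr⟩ := H.two q
  haveI : IsMulCommutative ↥(qpart r x) := ⟨⟨fun a b => Subtype.ext (qpart_comm a.2 b.2)⟩⟩
  let Θ : ↥(nz x) →* MulAut ↥(qpart r x) :=
    { toFun := fun u =>
        { toFun := fun a => ⟨(u : G) * a * (u : G)⁻¹, conj_qpart u.2 a.2⟩
          invFun := fun a => ⟨(u : G)⁻¹ * a * ((u : G)⁻¹)⁻¹, conj_qpart (inv_mem u.2) a.2⟩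
          left_inv := fun a => Subtype.ext (by simp [mul_assoc])
          right_inv := fun a => Subtype.ext (by simp [mul_assoc])
          map_mul' := fun a b => Subtype.ext (by simp [mul_assoc]) }
      map_one' := MulEquiv.ext fun a => Subtype.ext (by simp)
      map_mul' := fun u v => MulEquiv.ext fun a => Subtype.ext (by simp [mul_assoc]) }
  have hΘ : ∀ (u : ↥(nz x)) (a : ↥(qpart r x)), ((Θ u a : ↥(qpart r x)) : G) = (u : G) * a * (u : G)⁻¹ :=
    fun u a => rfl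
  have hker : ∀ u : ↥(nz x), (u : G) ∈ cz x → Θ u = 1 := fun u hu => MulEquiv.ext fun a => Subtype.ext (by
    rw [hΘ, Subgroup.mem_centralizer_iff.1 a.2.2.1 (u : G) hu, mul_inv_cancel_right]
    rfl)
  set Z : Subgroup ↥(qpart r x) := (center G).subgroupOf (qpart r x) with hZdef
  have hfix : ∀ (u : ↥(nz x)), (u : G) ∉ cz x → ∀ y, Θ u y = y → y ∈ Z := by
    intro u hu y hy
    rw [hZdef, mem_subgroupOf]
    by_contra hyc
    have h1 : (u : G) * y * (u : G)⁻¹ = y := congrArg Subtype.val hy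
    exact hu (semireg H hx ⟨reg_of_isQEl H.prime hr.1 hr.2.1 y.2.2.2, hyc⟩ y.2.1 (mul_inv_eq_iff_eq_mul.1 h1))
  set gg : ↥(nz x) := ⟨g, hg⟩
  set hh' : ↥(nz x) := ⟨h, hh⟩
  have hc : Commute (Θ gg) (Θ hh') := by
    have h1 : Θ (gg * hh' * (hh' * gg)⁻¹) = 1 := hker _ hgh
    rw [map_mul, map_inv, mul_inv_eq_one] at h1
    rwa [map_mul, map_mul] at h1
  obtain ⟨a, ha, han⟩ := exists_mem_qpart H hr hx
  have h2 : (⟨a, ha⟩ : ↥(qpart r x)) ^ q ∈ Z := by
    refine pow_mem_of_fixed q hc ?_ ?_ Z ?_ (hfix gg hgx) (fun i y hy => ?_) _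
    · rw [← map_pow]; exact hker _ hgq
    · rw [← map_pow]; exact hker _ hhq
    · intro z hz
      rw [hZdef, mem_subgroupOf] at hz
      refine Subtype.ext ?_
      rw [hΘ, Subgroup.mem_center_iff.1 hz, mul_inv_cancel_right]
    · rw [← map_pow, ← map_mul] at hy
      exact hfix _ (hcon i.val) y hy
  rw [hZdef, mem_subgroupOf] at h2
  have h3 : proj a ^ q = 1 := by rw [← map_pow]; exact proj_eq_one.2 h2
  have h4 : IsQEl r (proj a) := by
    obtain ⟨k, hk⟩ := ha.2.2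
    exact ⟨k, by rw [← map_pow, hk, map_one]⟩
  exact han.2 (proj_eq_one.1 (h4.eq_one hr.1 h3 fun hd => hrq ((Nat.prime_dvd_prime_iff_eq hr.1 hq).1 hd)))

omit H in
theorem nc_of_notMem_cz {q : ℕ} (hp : p.Prime) (hq : q.Prime) (hqp : q ≠ p) {x u : G} (hu : IsQEl q u)
    (hux : u ∉ cz x) : NC p u :=
  ⟨reg_of_isQEl hp hq hqp hu, fun h => hux (mem_cz_center h)⟩

theorem fixed_pow_mem {q : ℕ} (hq : q.Prime) (hqp : q ≠ p) {x u a : G} (hx : NC p x) (hux : u ∉ cz x)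
    (huq : u ^ q ∈ center G) (ha : a ∈ qpart q x) (hfix : proj (u * a * u⁻¹) = proj a) : a ^ q ∈ center G := by
  obtain ⟨ζ, hζ, h⟩ := exists_translate hfix
  have hz : ζ ^ q = 1 := translate_comm_pow h hζ (Subgroup.mem_center_iff.1 huq a).symm
  by_contra hac
  have h1 : u * a ^ q * u⁻¹ = a ^ q := by
    rw [← conj_pow, h, (Commute.mul_pow (Subgroup.mem_center_iff.1 hζ a) q), hz, mul_one]
  exact hux (semireg H hx ⟨reg_of_isQEl H.prime hq hqp (ha.2.2.pow q), hac⟩ (pow_mem ha.1 q)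
    (mul_inv_eq_iff_eq_mul.1 h1))

/-- The fixed points in the `q`-part modulo the centre have order `q`. -/
theorem fixed_mem_zpowers {q : ℕ} (hq : q.Prime) (hqp : q ≠ p) {x u b a : G} (hx : NC p x) (hu : IsQEl q u)
    (hux : u ∉ cz x) (huq : u ^ q ∈ center G) (hb : b ∈ qpart q x) (hbc : b ∉ center G)
    (hbf : proj (u * b * u⁻¹) = proj b) (ha : a ∈ qpart q x) (haf : proj (u * a * u⁻¹) = proj a) :
    proj a ∈ zpowers (proj b) := by
  have hun := nc_of_notMem_cz H.prime hq hqp hu hux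
  have hsw : ∀ c : G, proj (u * c * u⁻¹) = proj c → c ∈ nz u := fun c hc => by
    refine mem_nz_of_proj H hun ?_
    simp only [map_mul, map_inv] at hc ⊢
    rw [← mul_inv_eq_iff_eq_mul.1 hc, mul_inv_cancel_right]
  have hbu : b ∉ cz u := fun h =>
    hux (semireg H hx (nc_of_mem_qpart H hq hqp hb hbc) hb.1 (mem_cz.1 h).symm)
  obtain ⟨i, hi⟩ := exists_pow_mul_mem H hq hun (hsw b hbf) (hsw a haf) hbu
    (mem_cz_center (fixed_pow_mem H hq hqp hx hux huq hb hbf))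
    (mem_cz_center (fixed_pow_mem H hq hqp hx hux huq ha haf))
    (by rw [qpart_comm hb ha, mul_inv_cancel]; exact one_mem _)
  have hmem : b ^ i * a ∈ qpart q x := mul_mem (pow_mem hb i) ha
  have hc : b ^ i * a ∈ center G := by
    by_contra hc
    exact hux (semireg H hx (nc_of_mem_qpart H hq hqp hmem hc) hmem.1 (mem_cz.1 hi).symm)
  have h1 : proj b ^ i * proj a = 1 := by rw [← map_pow, ← map_mul]; exact proj_eq_one.2 hc
  rw [eq_inv_of_mul_eq_one_right h1]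
  exact inv_mem (pow_mem (mem_zpowers _) i)

theorem exists_fixed {q : ℕ} (hq : NCP p q G) {x u : G} (hx : NC p x) (hun : u ∈ nz x) (hux : u ∉ cz x)
    (huq : u ^ q ∈ center G) :
    ∃ b ∈ qpart q x, b ∉ center G ∧ b ^ q ∈ center G ∧ proj (u * b * u⁻¹) = proj b ∧ orderOf (proj b) = q := by
  haveI := Fact.mk hq.1
  obtain ⟨y, hy, hy1, hy2⟩ := exists_fixed_outside (F := ⊥) (g := proj u) (isPGroup_qimage q x) bot_le
    (qimage_ne_bot H hq hx).symm (fun y hy => conj_qimage hun hy)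
    (fun y hy => by rw [Subgroup.mem_bot.1 hy]; simp)
    (fun y _ => by rw [← map_pow, proj_eq_one.2 huq, one_mul, mul_one])
  obtain ⟨b, hb, rfl⟩ := hy
  have hbf : proj (u * b * u⁻¹) = proj b := by
    rw [map_mul, map_mul, map_inv]
    exact (inv_mul_eq_one.1 (Subgroup.mem_bot.1 hy2)).symm
  have hbc : b ∉ center G := fun h => hy1 (by rw [proj_eq_one.2 h]; exact one_mem _)
  have hbq := fixed_pow_mem H hq.1 hq.2.1 hx hux huq hb hbf
  refine ⟨b, hb, hbc, hbq, hbf, orderOf_eq_prime ?_ fun h => hbc (proj_eq_one.1 h)⟩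
  rw [← map_pow]; exact proj_eq_one.2 hbq

/-- A transvection in the `q`-part. -/
theorem exists_transvection {q : ℕ} (hq : NCP p q G) {x u c : G} (hx : NC p x) (hu : IsQEl q u)
    (hun : u ∈ nz x) (hux : u ∉ cz x) (huq : u ^ q ∈ center G) (hc : c ∈ qpart q x) (hcc : c ∉ center G)
    (hcf : proj (u * c * u⁻¹) = proj c) (hbig : Nat.card (qimage q x) ≠ q) :
    ∃ a ∈ qpart q x, proj (a * u * a⁻¹) = proj (u * c) := by
  haveI := Fact.mk hq.1
  have hord : orderOf (proj c) = q := by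
    refine orderOf_eq_prime ?_ fun h => hcc (proj_eq_one.1 h)
    rw [← map_pow]; exact proj_eq_one.2 (fixed_pow_mem H hq.1 hq.2.1 hx hux huq hc hcf)
  have hcf' : proj u * proj c * (proj u)⁻¹ = proj c := by rw [← map_inv, ← map_mul, ← map_mul]; exact hcf
  have hFY : zpowers (proj c) ≤ qimage q x := zpowers_le.2 ⟨c, hc, rfl⟩
  obtain ⟨y, hy, hy1, hy2⟩ := exists_fixed_outside (g := proj u) (isPGroup_qimage q x) hFY
    (fun e => hbig (by rw [← e, Nat.card_zpowers, hord])) (fun y hy => conj_qimage hun hy)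
    (fun y hy => by
      obtain ⟨i, rfl⟩ := mem_zpowers_iff.1 hy
      rw [← conj_zpow, hcf']; exact zpow_mem (mem_zpowers _) i)
    (fun y _ => by rw [← map_pow, proj_eq_one.2 huq, one_mul, mul_one])
  obtain ⟨a, ha, rfl⟩ := hy
  set A := proj a
  set B := proj c
  set U := proj u
  set d := A⁻¹ * (U * A * U⁻¹) with hd
  have hBU : Commute U B := mul_inv_eq_iff_eq_mul.1 hcf'
  have hd1 : d ≠ 1 := fun e => hy1 (fixed_mem_zpowers H hq.1 hq.2.1 hx hu hux huq hc hcc hcf ha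
    (by rw [map_mul, map_mul, map_inv]; exact (inv_mul_eq_one.1 e).symm))
  have hdB : zpowers d⁻¹ = zpowers B := by
    refine Subgroup.eq_of_le_of_card_ge (zpowers_le.2 (inv_mem hy2)) ?_
    rw [Nat.card_zpowers, Nat.card_zpowers, hord]
    have h1 : orderOf d⁻¹ ∣ q := by
      have h := Subgroup.orderOf_dvd_natCard _ (inv_mem hy2)
      rwa [Nat.card_zpowers, hord] at h
    rcases (Nat.dvd_prime hq.1).1 h1 with h | h
    · exact absurd (inv_eq_one.1 (orderOf_eq_one_iff.1 h)) hd1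
    · exact h.ge
  obtain ⟨l, hl⟩ := mem_zpowers_iff.1 (hdB ▸ mem_zpowers B : B ∈ zpowers d⁻¹)
  obtain ⟨i, hi⟩ := mem_zpowers_iff.1 hy2
  have hAB : Commute A B := by
    show proj a * proj c = proj c * proj a
    rw [← map_mul, ← map_mul, qpart_comm ha hc]
  have hAd : Commute d⁻¹ A := by rw [← hi]; exact ((hAB.zpow_right i).symm).inv_left
  have hUd : Commute U d := by rw [← hi]; exact hBU.zpow_right i
  have h1 : U⁻¹ * A * U = d⁻¹ * A := by
    have e1 : U * A * U⁻¹ = A * d := by rw [hd, mul_inv_cancel_left]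
    calc U⁻¹ * A * U = U⁻¹ * (U * A * U⁻¹ * d⁻¹) * U := by rw [e1, mul_inv_cancel_right]
      _ = A * (U⁻¹ * d⁻¹ * U) := by group
      _ = d⁻¹ * A := by rw [mul_assoc U⁻¹, ← hUd.inv_right.eq, inv_mul_cancel_left, hAd.eq]
  refine ⟨a ^ l, zpow_mem ha l, ?_⟩
  simp only [map_mul, map_inv, map_zpow]
  have h2 : U⁻¹ * A ^ l * U = B * A ^ l := by
    have := conj_zpow (a := U⁻¹) (b := A) (i := l)
    rw [inv_inv, h1, hAd.mul_zpow, hl] at this
    exact this.symm
  calc A ^ l * U * (A ^ l)⁻¹ = U * (U⁻¹ * A ^ l * U) * (A ^ l)⁻¹ := by group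
    _ = U * (B * A ^ l) * (A ^ l)⁻¹ := by rw [h2]
    _ = U * B := by group

/-- No element inverts modulo the centralizer when an element of odd prime order acts. -/
theorem no_inversion {q : ℕ} (hq : q.Prime) (hq2 : q ≠ 2) {x u k : G} (hx : NC p x)
    (hxq : x ^ q ∈ center G) (hkx : proj (k * x * k⁻¹) = proj x⁻¹) (hk2 : k * k ∈ cz x)
    (hux : u ∉ cz x) (huq : u ^ q ∈ center G) (hufx : proj (u * x * u⁻¹) = proj x)
    (hku : u⁻¹ * (k * u * k⁻¹) ∈ cz x ∨ u * (k * u * k⁻¹) ∈ cz x) : False := by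
  obtain ⟨ζ, hζ, h1⟩ := exists_translate hufx
  have hun : u ∈ nz x := mem_nz_of_proj H hx hufx
  have hkn : k ∈ nz x := by
    refine mem_nz_of_conj H hx hx (self_mem_cz x) ?_
    rw [show k * x * k⁻¹ = x⁻¹ * (x * (k * x * k⁻¹)) by group]
    refine mul_mem (inv_mem (self_mem_cz x)) (mem_cz_center ?_)
    have := proj_eq.1 hkx.symm
    simpa using this
  have hodd : q % 2 = 1 := hq.eq_two_or_odd.resolve_left hq2
  rcases hku with hc | hc
  · obtain ⟨c, hc', he⟩ : ∃ c ∈ cz x, k * u * k⁻¹ = u * c := ⟨_, hc, by group⟩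
    have hkn' : k * ζ * k⁻¹ = ζ := by rw [Subgroup.mem_center_iff.1 hζ k, mul_inv_cancel_right]
    obtain ⟨ξ, hξ, h2⟩ : ∃ ξ ∈ center G, k * x * k⁻¹ = x⁻¹ * ξ :=
      ⟨x * (k * x * k⁻¹), by simpa using proj_eq.1 hkx.symm, by group⟩
    have e1 : k * (u * x * u⁻¹) * k⁻¹ = x⁻¹ * ξ * ζ := by
      rw [h1, show k * (x * ζ) * k⁻¹ = k * x * k⁻¹ * (k * ζ * k⁻¹) by group, h2, hkn']
    have e2 : k * (u * x * u⁻¹) * k⁻¹ = x⁻¹ * ξ * ζ⁻¹ := by
      calc k * (u * x * u⁻¹) * k⁻¹ = k * u * k⁻¹ * (k * x * k⁻¹) * (k * u * k⁻¹)⁻¹ := by group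
        _ = u * (c * (x⁻¹ * ξ) * c⁻¹) * u⁻¹ := by rw [he, h2]; group
        _ = u * (x⁻¹ * ξ) * u⁻¹ := by
          rw [(Commute.mul_right (Commute.inv_right (mem_cz.1 hc')) (Subgroup.mem_center_iff.1 hξ c) :
            Commute c (x⁻¹ * ξ)).eq, mul_inv_cancel_right]
        _ = (u * x * u⁻¹)⁻¹ * (u * ξ * u⁻¹) := by group
        _ = x⁻¹ * ξ * ζ⁻¹ := by
          rw [h1, Subgroup.mem_center_iff.1 hξ u, mul_inv_cancel_right, mul_inv_rev,
            ← (Subgroup.mem_center_iff.1 (inv_mem hζ) x⁻¹), mul_assoc, Subgroup.mem_center_iff.1 hξ ζ⁻¹,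
            ← mul_assoc]
    have h3 : ζ ^ 2 = 1 := by
      rw [pow_two, ← eq_inv_iff_mul_eq_one]
      exact mul_left_cancel (e1.symm.trans e2)
    have h4 : ζ ^ q = 1 := translate_comm_pow h1 hζ (Subgroup.mem_center_iff.1 huq x).symm
    have h5 : ζ = 1 := by
      obtain ⟨t, ht⟩ : ∃ t, q = 2 * t + 1 := ⟨q / 2, by omega⟩
      rw [ht, pow_succ, pow_mul, h3, one_pow, one_mul] at h4
      exact h4
    rw [h5, mul_one] at h1
    exact hux (mem_cz.2 (mul_inv_eq_iff_eq_mul.1 h1))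
  · obtain ⟨c, hc', he⟩ : ∃ c ∈ cz x, k * u * k⁻¹ = u⁻¹ * c := ⟨_, hc, by group⟩
    have hkx' : k ∉ cz x := fun h => by
      rw [mem_cz.1 h, mul_inv_cancel_right] at hkx
      have h2 : x ^ 2 ∈ center G := by
        have := proj_eq.1 hkx.symm
        simpa [pow_two] using this
      apply hx.2
      obtain ⟨t, ht⟩ : ∃ t, q = 2 * t + 1 := ⟨q / 2, by omega⟩
      have h3 : x = ((x ^ 2) ^ t)⁻¹ * x ^ q := by rw [← pow_mul, ht, pow_succ, inv_mul_cancel_left]
      rw [h3]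
      exact mul_mem (inv_mem (pow_mem h2 t)) hxq
    obtain ⟨r, hrq, hr⟩ := H.two q
    have hinv : ∀ a ∈ qpart r x, proj (k * a * k⁻¹) = proj a⁻¹ := by
      intro a ha
      refine (proj_eq.2 ?_).symm
      rw [inv_inv]
      by_contra hyc
      have hy : a * (k * a * k⁻¹) ∈ qpart r x := mul_mem ha (conj_qpart hkn ha)
      refine hkx' (semireg H hx ⟨reg_of_isQEl H.prime hr.1 hr.2.1 hy.2.2, hyc⟩ hy.1 ?_)
      refine mul_inv_eq_iff_eq_mul.1 ?_
      calc k * (a * (k * a * k⁻¹)) * k⁻¹ = k * a * k⁻¹ * (k * k * a * (k * k)⁻¹) := by group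
        _ = k * a * k⁻¹ * a := by rw [Subgroup.mem_centralizer_iff.1 ha.2.1 _ hk2, mul_inv_cancel_right]
        _ = a * (k * a * k⁻¹) := qpart_comm (conj_qpart hkn ha) ha
    obtain ⟨a, ha, han⟩ := exists_mem_qpart H hr hx
    have ha' : u * a * u⁻¹ ∈ qpart r x := conj_qpart hun ha
    have e1 : k * (u * a * u⁻¹) * k⁻¹ = u⁻¹ * (k * a * k⁻¹) * u := by
      calc k * (u * a * u⁻¹) * k⁻¹ = k * u * k⁻¹ * (k * a * k⁻¹) * (k * u * k⁻¹)⁻¹ := by group
        _ = u⁻¹ * (c * (k * a * k⁻¹) * c⁻¹) * u := by rw [he]; group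
        _ = u⁻¹ * (k * a * k⁻¹) * u := by
          rw [Subgroup.mem_centralizer_iff.1 (conj_qpart hkn ha).2.1 c hc', mul_inv_cancel_right]
    have e2 := hinv _ ha'
    have e3 := hinv _ ha
    rw [e1] at e2
    simp only [map_mul, map_inv] at e2 e3
    rw [e3] at e2
    have hfix : proj (u ^ 2 * a * (u ^ 2)⁻¹) = proj a := by
      simp only [map_mul, map_inv, map_pow]
      have e4 := congrArg (fun t => t⁻¹) e2
      simp only [mul_inv_rev, inv_inv] at e4
      calc proj u ^ 2 * proj a * (proj u ^ 2)⁻¹ = proj u * (proj u * proj a * (proj u)⁻¹) * (proj u)⁻¹ := by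
            rw [pow_two]; group
        _ = proj u * ((proj u)⁻¹ * proj a * proj u) * (proj u)⁻¹ := by rw [mul_assoc (proj u)⁻¹, e4]
        _ = proj a := by group
    obtain ⟨η, hη, h2⟩ := exists_translate hfix
    have hηr : IsQEl r η := by
      have : η = a⁻¹ * (u ^ 2 * a * (u ^ 2)⁻¹) := by rw [h2, inv_mul_cancel_left]
      rw [this]
      exact (mul_mem (inv_mem ha) (conj_qpart (pow_mem hun 2) ha)).2.2
    have hcomm : (u ^ 2) ^ q * a = a * (u ^ 2) ^ q := by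
      have : (u ^ 2) ^ q ∈ center G := by
        rw [← pow_mul, mul_comm, pow_mul]; exact pow_mem huq 2
      exact (Subgroup.mem_center_iff.1 this a).symm
    have h5 := hηr.eq_one hr.1 (translate_comm_pow h2 hη hcomm)
      fun hd => hrq ((Nat.prime_dvd_prime_iff_eq hr.1 hq).1 hd)
    rw [h5, mul_one] at h2
    have h6 : u ^ 2 ∈ cz x := semireg H hx han ha.1 (mul_inv_eq_iff_eq_mul.1 h2)
    obtain ⟨t, ht⟩ : ∃ t, q = 2 * t + 1 := ⟨q / 2, by omega⟩
    refine hux ?_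
    have : u = ((u ^ 2) ^ t)⁻¹ * u ^ q := by rw [← pow_mul, ht, pow_succ, inv_mul_cancel_left]
    rw [this]
    exact mul_mem (inv_mem (pow_mem h6 t)) (mem_cz_center huq)

/-- For odd `q` the `q`-part has order `q` modulo the centre. -/
theorem card_qimage_odd {q : ℕ} (hq : NCP p q G) (hq2 : q ≠ 2) (hqm : q ∣ m) {x : G} (hx : NC p x) :
    Nat.card (qimage q x) = q := by
  by_contra hbig
  haveI := Fact.mk hq.1
  obtain ⟨u, hu, hun, hux, huq⟩ := exists_normalizing H hq hqm hx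
  obtain ⟨b, hb, hbc, hbq, hbf, hbo⟩ := exists_fixed H hq hx hun hux huq
  have hub : NC p u := nc_of_notMem_cz H.prime hq.1 hq.2.1 hu hux
  have hbn := nc_of_mem_qpart H hq.1 hq.2.1 hb hbc
  have hbf' : proj (b * u * b⁻¹) = proj u := by
    simp only [map_mul, map_inv] at hbf ⊢
    rw [← mul_inv_eq_iff_eq_mul.1 hbf, mul_inv_cancel_right]
  have hbu : b ∉ cz u := fun h => hux (semireg H hx hbn hb.1 (mem_cz.1 h).symm)
  have huu : u⁻¹ ∈ qpart q u := inv_mem (mem_qpart H hq.1 hq.2.1 hub (self_mem_cz u) hu)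
  obtain ⟨a₁, ha₁, e₁⟩ := exists_transvection H hq hx hu hun hux huq hb hbc hbf hbig
  obtain ⟨a₂, ha₂, e₂⟩ := exists_transvection H hq hub hb.2.2 (mem_nz_of_proj H hub hbf') hbu hbq huu
    (fun h => hub.2 (inv_mem_iff.1 h)) (by
      simp only [map_mul, map_inv] at hbf' ⊢
      have := congrArg (fun t => t⁻¹) hbf'
      simpa [mul_assoc] using this)
    (by rw [card_qimage_eq H hq.1 hq.2.1 hub hx]; exact hbig)
  set X := proj a₁ with hX
  set Y := proj a₂ with hY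
  set B := proj b with hB
  set U := proj u with hU
  simp only [map_mul, map_inv, ← hX, ← hY, ← hB, ← hU] at e₁ e₂ hbf
  have hBU : Commute U B := mul_inv_eq_iff_eq_mul.1 hbf
  have hXB : X * B * X⁻¹ = B := by
    rw [hX, hB, ← map_mul, ← map_inv, ← map_mul, qpart_comm ha₁ hb, mul_inv_cancel_right]
  have hYU : Y * U * Y⁻¹ = U := by
    rw [hY, hU, ← map_mul, ← map_inv, ← map_mul,
      Subgroup.mem_centralizer_iff.1 ha₂.2.1 u (self_mem_cz u) |>.symm, mul_inv_cancel_right]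
  set W := MulAut.conj (X * Y * X) with hW
  have hWX : ∀ z, W z = X * (Y * (X * z * X⁻¹) * Y⁻¹) * X⁻¹ := fun z => by
    rw [hW, MulAut.conj_apply]; group
  have hWB : W B = U⁻¹ := by
    rw [hWX, hXB, e₂, show X * (B * U⁻¹) * X⁻¹ = X * B * X⁻¹ * (X * U * X⁻¹)⁻¹ by group, hXB, e₁,
      mul_inv_rev, mul_inv_cancel_left]
  have hWU : W U = B := by
    rw [hWX, e₁, show Y * (U * B) * Y⁻¹ = Y * U * Y⁻¹ * (Y * B * Y⁻¹) by group, hYU, e₂,
      hBU.inv_left.symm.eq, mul_inv_cancel_left, hXB]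
  set k := a₁ * a₂ * a₁ * (a₁ * a₂ * a₁) with hk
  have hk' : ∀ z, proj k * z * (proj k)⁻¹ = W (W z) := fun z => by
    rw [hW, hk, MulAut.conj_apply, MulAut.conj_apply, map_mul, map_mul, map_mul, ← hX, ← hY]; group
  have hkB : proj k * B * (proj k)⁻¹ = B⁻¹ := by rw [hk', hWB, map_inv, hWU]
  have hkU : proj k * U * (proj k)⁻¹ = U⁻¹ := by rw [hk', hWU, hWB]
  -- pass to the 2-part of `k`
  set o := orderOf k with ho
  have ho0 : o ≠ 0 := (orderOf_pos k).ne'
  set o' := o / 2 ^ o.factorization 2 with ho'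
  have ho'odd : Odd o' := Nat.not_even_iff_odd.1 fun h =>
    Nat.not_dvd_ordCompl Nat.prime_two ho0 h.two_dvd
  have hpow : (k ^ o') ^ 2 ^ o.factorization 2 = 1 := by
    rw [← pow_mul, ho', Nat.div_mul_cancel (Nat.ordProj_dvd o 2), ho, pow_orderOf_eq_one]
  have hodd : ∀ z : G ⧸ center G, proj k * z * (proj k)⁻¹ = z⁻¹ →
      proj (k ^ o') * z * (proj (k ^ o'))⁻¹ = z⁻¹ := by
    intro z hz
    obtain ⟨t, ht⟩ := ho'odd
    have h2 : ∀ n : ℕ, proj k ^ (2 * n) * z * (proj k ^ (2 * n))⁻¹ = z := by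
      intro n
      induction n with
      | zero => simp
      | succ n ih =>
        calc proj k ^ (2 * (n + 1)) * z * (proj k ^ (2 * (n + 1)))⁻¹
            = proj k ^ (2 * n) * (proj k * (proj k * z * (proj k)⁻¹) * (proj k)⁻¹) * (proj k ^ (2 * n))⁻¹ := by
              rw [show 2 * (n + 1) = 2 * n + 1 + 1 by ring, pow_succ, pow_succ]; group
          _ = z := by
            rw [hz, show proj k * z⁻¹ * (proj k)⁻¹ = (proj k * z * (proj k)⁻¹)⁻¹ by group, hz, inv_inv, ih]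
    calc proj (k ^ o') * z * (proj (k ^ o'))⁻¹
        = proj k * (proj k ^ (2 * t) * z * (proj k ^ (2 * t))⁻¹) * (proj k)⁻¹ := by
          rw [map_pow, ht, pow_succ']; group
      _ = z⁻¹ := by rw [h2, hz]
  have hkb : proj (k ^ o' * b * (k ^ o')⁻¹) = proj b⁻¹ := by
    rw [map_mul, map_mul, map_inv, map_inv]; exact hodd B hkB
  have hku : proj (k ^ o' * u * (k ^ o')⁻¹) = proj u⁻¹ := by
    rw [map_mul, map_mul, map_inv, map_inv]; exact hodd U hkU
  have hkk : k ^ o' * k ^ o' ∈ cz b := by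
    have hf : proj (k ^ o' * k ^ o' * b * (k ^ o' * k ^ o')⁻¹) = proj b := by
      rw [show k ^ o' * k ^ o' * b * (k ^ o' * k ^ o')⁻¹ =
        k ^ o' * (k ^ o' * b * (k ^ o')⁻¹) * (k ^ o')⁻¹ by group, map_mul, map_mul, hkb, map_inv, map_inv]
      show proj (k ^ o') * B⁻¹ * (proj (k ^ o'))⁻¹ = B
      rw [show proj (k ^ o') * B⁻¹ * (proj (k ^ o'))⁻¹ = (proj (k ^ o') * B * (proj (k ^ o'))⁻¹)⁻¹ by group,
        hodd B hkB, inv_inv]
    obtain ⟨η, hη, h2⟩ := exists_translate hf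
    have h3 : η ^ 2 ^ o.factorization 2 = 1 := translate_comm_pow h2 hη (by
      rw [show k ^ o' * k ^ o' = (k ^ o') ^ 2 by group, ← pow_mul, mul_comm, pow_mul, hpow, one_pow, one_mul,
        mul_one])
    have h4 : η ^ q = 1 := translate_pow_exp h2 hη
      (by rw [Subgroup.mem_center_iff.1 hbq, mul_inv_cancel_right])
    have h5 : η = 1 := by
      rw [← orderOf_eq_one_iff]
      refine Nat.eq_one_of_dvd_coprimes ?_ (orderOf_dvd_of_pow_eq_one h3) (orderOf_dvd_of_pow_eq_one h4)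
      exact ((Nat.coprime_primes Nat.prime_two hq.1).2 (Ne.symm hq2)).pow_left _
    rw [h5, mul_one] at h2
    exact mem_cz.2 (mul_inv_eq_iff_eq_mul.1 h2)
  have hcb : cz b = cz x := cz_eq H hx hbn hb.1
  refine no_inversion H hq.1 hq2 hbn hbq hkb hkk (hcb ▸ hux) huq
    (by rw [map_mul, map_mul, map_inv]; exact hbf) (Or.inr (mem_cz_center ?_))
  simpa using proj_eq.1 hku.symm

/-- If `2` divides the class size, the centralizer has index two in its normalizer. -/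
theorem mul_mem_of_two (h2 : NCP p 2 G) (h2m : 2 ∣ m) {x : G} (hx : NC p x) :
    (∀ g ∈ nz x, g * g ∈ cz x) ∧ ∀ g h : G, g ∈ nz x → h ∈ nz x → g ∉ cz x → h ∉ cz x → g * h ∈ cz x := by
  haveI : Fact (Nat.Prime 2) := ⟨Nat.prime_two⟩
  obtain ⟨u, hu, hun, hux, huq⟩ := exists_normalizing H h2 h2m hx
  obtain ⟨b, hb, hbc, hbq, hbf, hbo⟩ := exists_fixed H h2 hx hun hux huq
  have hbn := nc_of_mem_qpart H h2.1 h2.2.1 hb hbc
  have hU2 : proj u * proj u = 1 := by rw [← map_mul, ← pow_two]; exact proj_eq_one.2 huq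
  have hinv : ∀ a ∈ qpart 2 x, proj u * proj a * (proj u)⁻¹ = (proj a)⁻¹ := by
    intro a ha
    have hsq : (u * a) ^ 2 = u ^ 2 * (u⁻¹ * a * (u⁻¹)⁻¹ * a) := by rw [pow_two (u * a)]; group
    have hcz : (u * a) ^ 2 ∈ qpart 2 x := by
      rw [hsq]
      exact mul_mem (qcenter_le 2 x ⟨huq, hu.pow 2⟩) (mul_mem (conj_qpart (inv_mem hun) ha) ha)
    have ht : IsQEl 2 (u * a) := by
      obtain ⟨j, hj⟩ := hcz.2.2
      exact ⟨j + 1, by rw [pow_succ', pow_mul, hj]⟩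
    have hua : u * a ∉ cz x := fun h => hux ((Subgroup.mul_mem_cancel_right _ ha.1).1 h)
    have hc := pow_mem_center H h2.1 h2.2.1 hx ht hua hcz.1
    rw [hsq, Subgroup.mul_mem_cancel_left _ huq, ← proj_eq_one] at hc
    simp only [map_mul, map_inv, inv_inv] at hc
    have hU : (proj u)⁻¹ = proj u := inv_eq_of_mul_eq_one_right hU2
    rw [hU] at hc ⊢
    exact eq_inv_of_mul_eq_one_left hc
  have hb2 : proj b ^ 2 = 1 := by rw [← map_pow]; exact proj_eq_one.2 hbq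
  have hfix : ∀ g ∈ nz x, proj (g * b * g⁻¹) = proj b := by
    intro g hg
    have hmem := conj_qpart hg hb
    have hsq : proj (g * b * g⁻¹) ^ 2 = 1 := by
      rw [map_mul, map_mul, map_inv, conj_pow, hb2, mul_one, mul_inv_cancel]
    have hinv' : (proj (g * b * g⁻¹))⁻¹ = proj (g * b * g⁻¹) :=
      inv_eq_of_mul_eq_one_right (by rw [← pow_two, hsq])
    have hf : proj (u * (g * b * g⁻¹) * u⁻¹) = proj (g * b * g⁻¹) := by
      conv_lhs => rw [map_mul, map_mul _ u, map_inv]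
      rw [hinv _ hmem, hinv']
    obtain ⟨i, hi⟩ := mem_zpowers_iff.1 (fixed_mem_zpowers H h2.1 h2.2.1 hx hu hux huq hb hbc hbf hmem hf)
    rcases Int.even_or_odd' i with ⟨t, rfl | rfl⟩
    · exfalso
      rw [zpow_mul, show proj b ^ (2 : ℤ) = 1 from by exact_mod_cast hb2, one_zpow] at hi
      exact (hbn.conj g).2 (proj_eq_one.1 hi.symm)
    · rw [zpow_add, zpow_mul, show proj b ^ (2 : ℤ) = 1 from by exact_mod_cast hb2, one_zpow, one_mul, zpow_one] at hi
      exact hi.symm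
  have hcb : cz b = cz x := cz_eq H hx hbn hb.1
  have hsqmem : ∀ g ∈ nz x, g * g ∈ cz x := by
    intro g hg
    obtain ⟨ζ, hζ, h⟩ := exists_translate (hfix g hg)
    have hz : ζ ^ 2 = 1 := translate_pow_exp h hζ
      (by rw [Subgroup.mem_center_iff.1 hbq, mul_inv_cancel_right])
    have h' := translate_pow h hζ 2
    rw [hz, mul_one] at h'
    rw [← hcb, ← pow_two]
    exact mem_cz.2 (mul_inv_eq_iff_eq_mul.1 h')
  refine ⟨hsqmem, fun g h hg hh hgx hhx => ?_⟩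
  obtain ⟨ζ, hζ, eg⟩ := exists_translate (hfix g hg)
  obtain ⟨ξ, hξ, eh⟩ := exists_translate (hfix h hh)
  have hgh : g * h * (h * g)⁻¹ ∈ cz x := by
    rw [← hcb, mem_cz]
    have k1 : g * h * b * (g * h)⁻¹ = b * (ζ * ξ) := by
      calc g * h * b * (g * h)⁻¹ = g * (h * b * h⁻¹) * g⁻¹ := by group
        _ = g * b * g⁻¹ * (g * ξ * g⁻¹) := by rw [eh]; group
        _ = b * (ζ * ξ) := by rw [eg, Subgroup.mem_center_iff.1 hξ g, mul_inv_cancel_right, mul_assoc]
    have k2 : h * g * b * (h * g)⁻¹ = b * (ζ * ξ) := by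
      calc h * g * b * (h * g)⁻¹ = h * (g * b * g⁻¹) * h⁻¹ := by group
        _ = h * b * h⁻¹ * (h * ζ * h⁻¹) := by rw [eg]; group
        _ = b * (ζ * ξ) := by
          rw [eh, Subgroup.mem_center_iff.1 hζ h, mul_inv_cancel_right, mul_assoc, Subgroup.mem_center_iff.1 hζ ξ]
    have k3 : g * h * (h * g)⁻¹ * (h * g * b * (h * g)⁻¹) = g * h * b * (g * h)⁻¹ * (g * h * (h * g)⁻¹) := by
      group
    rw [k2, k1, ← mul_assoc, mul_assoc b, ← Subgroup.mem_center_iff.1 (mul_mem hζ hξ), ← mul_assoc b (g * h * (h * g)⁻¹)] at k3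
    exact mul_right_cancel k3
  obtain ⟨i, hi⟩ := exists_pow_mul_mem H Nat.prime_two hx hg hh hgx (by rw [pow_two]; exact hsqmem g hg)
    (by rw [pow_two]; exact hsqmem h hh) hgh
  rcases Nat.even_or_odd' i with ⟨t, rfl | rfl⟩
  · exfalso
    rw [pow_mul, pow_two] at hi
    exact hhx ((Subgroup.mul_mem_cancel_left _ (pow_mem (hsqmem g hg) t)).1 hi)
  · rw [pow_succ, mul_assoc, pow_mul, pow_two] at hi
    exact (Subgroup.mul_mem_cancel_left _ (pow_mem (hsqmem g hg) t)).1 hi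

end CfsgLib.RegularTwoSizes
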