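import Mathlib

/-!
Small tools: fixed cosets of an element of prime order modulo a centralizer, the norm argument for two
commuting automorphisms of an abelian group, and Burnside's complement in element form.
-/

set_option autoImplicit false

namespace CfsgLib.RegularTwoSizes

open Subgroup

section Outside

variable {M : Type*} [Group M]

/-- An element of prime order modulo the centralizer fixes a coset of `F` in `Y` other than `F`. -/
theorem exists_fixed_outside {q : ℕ} [hq : Fact q.Prime] [Finite M] {Y F : Subgroup M} (hY : IsPGroup q Y)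
    (hFY : F ≤ Y) (hne : F ≠ Y) {g : M} (hgY : ∀ y ∈ Y, g * y * g⁻¹ ∈ Y) (hgF : ∀ y ∈ F, g * y * g⁻¹ ∈ F)
    (hgq : ∀ y ∈ Y, g ^ q * y = y * g ^ q) : ∃ y ∈ Y, y ∉ F ∧ y⁻¹ * (g * y * g⁻¹) ∈ F := by
  classical
  set F' := F.subgroupOf Y with hF'
  let c : Y → Y := fun y => ⟨g * y * g⁻¹, hgY y y.2⟩
  have hc : ∀ a b : Y, a⁻¹ * b ∈ F' → (c a)⁻¹ * c b ∈ F' := fun a b h => by
    rw [mem_subgroupOf] at h ⊢
    have := hgF _ h
    simpa [c, mul_assoc] using this
  let σ : Y ⧸ F' → Y ⧸ F' := Quotient.map' c (fun a b h =>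
    QuotientGroup.leftRel_apply.2 (hc a b (QuotientGroup.leftRel_apply.1 h)))
  have hσ : ∀ y : Y, σ (QuotientGroup.mk y) = QuotientGroup.mk (c y) := fun y => rfl
  have hiter : ∀ (k : ℕ) (y : Y), σ^[k] (QuotientGroup.mk y) = QuotientGroup.mk (c^[k] y) := by
    intro k
    induction k with
    | zero => intro y; rfl
    | succ k ih => intro y; rw [Function.iterate_succ_apply', ih, hσ, Function.iterate_succ_apply']
  have hciter : ∀ (k : ℕ) (y : Y), ((c^[k] y : Y) : M) = g ^ k * y * (g ^ k)⁻¹ := by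
    intro k
    induction k with
    | zero => intro y; simp
    | succ k ih =>
      intro y
      rw [Function.iterate_succ_apply']
      show g * ((c^[k] y : Y) : M) * g⁻¹ = _
      rw [ih, pow_succ']
      group
  have hper : σ^[q] = id := by
    funext z
    induction z using QuotientGroup.induction_on with
    | _ y =>
      rw [hiter, id_eq]
      congr 1
      refine Subtype.ext ?_
      rw [hciter, hgq y y.2, mul_inv_cancel_right]
  have hbij : Function.Bijective σ := by
    have h1 : q = (q - 1) + 1 := (Nat.succ_pred_eq_of_pos hq.out.pos).symm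
    refine Function.bijective_iff_has_inverse.2 ⟨σ^[q - 1], fun z => ?_, fun z => ?_⟩
    · rw [← Function.iterate_succ_apply, Nat.succ_eq_add_one, ← h1, hper, id_eq]
    · rw [← Function.iterate_succ_apply' σ, Nat.succ_eq_add_one, ← h1, hper, id_eq]
  let e : Equiv.Perm (Y ⧸ F') := Equiv.ofBijective σ hbij
  have he : ∀ k : ℕ, ⇑(e ^ k) = σ^[k] := fun k => by rw [Equiv.Perm.coe_pow]; rfl
  have heq : e ^ q = 1 := Equiv.ext fun z => by rw [he, hper]; rfl
  have hP : IsPGroup q (Subgroup.zpowers e) := by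
    refine fun x => ⟨1, Subtype.ext ?_⟩
    obtain ⟨i, hi⟩ := Subgroup.mem_zpowers_iff.1 x.2
    rw [pow_one, SubgroupClass.coe_pow, OneMemClass.coe_one, ← hi, ← zpow_natCast, ← zpow_mul, mul_comm,
      zpow_mul, zpow_natCast, heq, one_zpow]
  obtain ⟨k, -, hk⟩ : ∃ k, 0 ≤ k ∧ Nat.card (Y ⧸ F') = q ^ k := by
    obtain ⟨n, hn⟩ := hY.exists_card_eq
    obtain ⟨i, -, hi⟩ := (Nat.dvd_prime_pow hq.out).1 (hn ▸ F'.index_dvd_card)
    exact ⟨i, Nat.zero_le i, hi⟩
  have hdvd : q ∣ Nat.card (Y ⧸ F') := by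
    rcases Nat.eq_zero_or_pos k with rfl | hk0
    · rw [pow_zero] at hk
      exact absurd (le_antisymm hFY (subgroupOf_eq_top.1 (index_eq_one.1 hk))) hne
    · rw [hk]; exact dvd_pow_self q hk0.ne'
  have hfix : q ∣ Nat.card (MulAction.fixedPoints (Subgroup.zpowers e) (Y ⧸ F')) :=
    Nat.modEq_zero_iff_dvd.1 ((hP.card_modEq_card_fixedPoints (Y ⧸ F')).symm.trans (Nat.modEq_zero_iff_dvd.2 hdvd))
  have h1mem : (QuotientGroup.mk (1 : Y) : Y ⧸ F') ∈ MulAction.fixedPoints (Subgroup.zpowers e) (Y ⧸ F') := by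
    intro x
    have h1 : e (QuotientGroup.mk (1 : Y)) = QuotientGroup.mk (1 : Y) := by
      refine (hσ 1).trans ?_
      congr 1
      exact Subtype.ext (by simp [c])
    obtain ⟨i, hi⟩ := Subgroup.mem_zpowers_iff.1 x.2
    show (x : Equiv.Perm (Y ⧸ F')) _ = _
    rw [← hi]
    exact Equiv.Perm.zpow_apply_eq_self_of_apply_eq_self h1 i
  obtain ⟨z, hz, hzne⟩ : ∃ z ∈ MulAction.fixedPoints (Subgroup.zpowers e) (Y ⧸ F'),
      z ≠ QuotientGroup.mk (1 : Y) := by
    by_contra hcon
    push Not at hcon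
    have : Nat.card (MulAction.fixedPoints (Subgroup.zpowers e) (Y ⧸ F')) = 1 := by
      rw [Nat.card_eq_one_iff_exists]
      exact ⟨⟨_, h1mem⟩, fun u => Subtype.ext (hcon u u.2)⟩
    rw [this] at hfix
    exact hq.out.ne_one (Nat.dvd_one.1 hfix)
  induction z using QuotientGroup.induction_on with
  | _ y =>
    refine ⟨y, y.2, fun hy => hzne (QuotientGroup.eq.2 (by rw [mem_subgroupOf]; simpa using hy)), ?_⟩
    have h : σ (QuotientGroup.mk y) = QuotientGroup.mk y := hz ⟨e, Subgroup.mem_zpowers e⟩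
    rw [hσ] at h
    have := QuotientGroup.eq.1 h.symm
    rw [mem_subgroupOf] at this
    simpa [c, mul_assoc] using this

end Outside

section Norm

variable {A : Type*} [CommGroup A] (q : ℕ) [hq : Fact q.Prime]

/-- The product of the translates of `a` under the powers of `f`. -/
noncomputable def nm (f : MulAut A) (a : A) : A := ∏ k : ZMod q, (f ^ k.val) a

theorem pow_val_add {f : MulAut A} (hf : f ^ q = 1) (i j : ZMod q) : f ^ i.val * f ^ j.val = f ^ (i + j).val := by
  rw [← pow_add, ZMod.val_add, ← pow_mod_orderOf f, ← pow_mod_orderOf f ((i.val + j.val) % q),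
    Nat.mod_mod_of_dvd _ (orderOf_dvd_of_pow_eq_one hf)]

theorem nm_fixed {f : MulAut A} (hf : f ^ q = 1) (a : A) : f (nm q f a) = nm q f a := by
  rw [nm, map_prod]
  refine Fintype.prod_bijective (fun k => 1 + k) (AddGroup.addLeft_bijective 1) _ _ fun k => ?_
  rw [← MulAut.mul_apply]
  have h := pow_val_add q hf 1 k
  rw [ZMod.val_one, pow_one] at h
  rw [h]

/-- Two commuting automorphisms of order `q` with fixed points in `Z` on every line force `a ^ q ∈ Z`. -/
theorem pow_mem_of_fixed {φ ψ : MulAut A} (hc : Commute φ ψ) (hφ : φ ^ q = 1) (hψ : ψ ^ q = 1) (Z : Subgroup A)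
    (hZ : ∀ z ∈ Z, ψ z = z) (h1 : ∀ y, φ y = y → y ∈ Z)
    (h2 : ∀ i : ZMod q, ∀ y, (φ ^ i.val * ψ) y = y → y ∈ Z) (a : A) : a ^ q ∈ Z := by
  classical
  have hfix : ∀ i : ZMod q, nm q (φ ^ i.val * ψ) a ∈ Z := fun i => h2 i _ (nm_fixed q (by
    rw [(hc.pow_left i.val).mul_pow, ← pow_mul, mul_comm i.val, pow_mul, hφ, one_pow, one_mul, hψ]) a)
  have hN : nm q φ a ∈ Z := h1 _ (nm_fixed q hφ a)
  have hsum : ∏ i : ZMod q, nm q (φ ^ i.val * ψ) a ∈ Z := Subgroup.prod_mem _ fun i _ => hfix i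
  simp only [nm] at hsum
  rw [Finset.prod_comm] at hsum
  have hk : ∀ k : ZMod q, k ≠ 0 →
      ∏ i : ZMod q, ((φ ^ i.val * ψ) ^ k.val) a = (ψ ^ k.val) (nm q φ a) := by
    intro k hk
    rw [nm, map_prod]
    refine Fintype.prod_bijective (fun i => i * k) (mulRight_bijective₀ k hk) _ _ fun i => ?_
    rw [← MulAut.mul_apply, (hc.pow_left i.val).mul_pow, ← pow_mul,
      (hc.pow_pow (i * k).val k.val).symm.eq]
    congr 1
    rw [ZMod.val_mul, ← pow_mod_orderOf φ, ← pow_mod_orderOf φ ((i.val * k.val) % q),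
      Nat.mod_mod_of_dvd _ (orderOf_dvd_of_pow_eq_one hφ)]
  rw [← Finset.mul_prod_erase _ _ (Finset.mem_univ (0 : ZMod q))] at hsum
  have h0 : ∏ i : ZMod q, ((φ ^ i.val * ψ) ^ (0 : ZMod q).val) a = a ^ q := by
    simp [ZMod.card]
  rw [h0] at hsum
  refine (Subgroup.mul_mem_cancel_right _ ?_).1 hsum
  refine Subgroup.prod_mem _ fun k hkm => ?_
  rw [hk k (Finset.ne_of_mem_erase hkm)]
  have : ∀ j : ℕ, (ψ ^ j) (nm q φ a) = nm q φ a := by
    intro j
    induction j with
    | zero => simp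
    | succ j ih => rw [pow_succ, MulAut.mul_apply, hZ _ hN, ih]
  rw [this]
  exact hN

end Norm

/-- Burnside: a Sylow subgroup central in its normalizer has a complement containing all elements of coprime order. -/
theorem exists_complement {K : Type*} [Group K] [Finite K] {r : ℕ} [Fact r.Prime] (P : Sylow r K)
    (hP : Subgroup.normalizer ((P : Subgroup K) : Set K) ≤ Subgroup.centralizer ((P : Subgroup K) : Set K)) :
    ∃ N : Subgroup K, N.Normal ∧ ¬ r ∣ Nat.card N ∧ ∀ g : K, (orderOf g).Coprime r → g ∈ N := by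
  have hc := MonoidHom.ker_transferSylow_isComplement' P hP
  refine ⟨(MonoidHom.transferSylow P hP).ker, MonoidHom.normal_ker _, ?_, fun g hg => ?_⟩
  · rw [← hc.index_eq_card]
    exact P.not_dvd_index
  · rw [MonoidHom.mem_ker]
    obtain ⟨k, hk⟩ := P.2 (MonoidHom.transferSylow P hP g)
    have h2 : (MonoidHom.transferSylow P hP g) ^ orderOf g = 1 := by rw [← map_pow, pow_orderOf_eq_one, map_one]
    rw [← orderOf_eq_one_iff]
    exact Nat.eq_one_of_dvd_coprimes (hg.pow_right k) (orderOf_dvd_of_pow_eq_one h2) (orderOf_dvd_of_pow_eq_one hk)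

end CfsgLib.RegularTwoSizes
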