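import Mathlib
import Cfsg.Agent.Lib.ClassPiCount
import Cfsg.Agent.Lib.RegularTwoSizes.Tools

/-!
Groups in which all noncentral `p`-regular classes have one size: centralizers of `p`-regular elements.
-/

set_option autoImplicit false

namespace CfsgLib.RegularTwoSizes

open Subgroup

variable {G : Type*} [Group G]

/-- Order prime to `p`. -/
def Reg (p : ℕ) (x : G) : Prop := (orderOf x).Coprime p

/-- Noncentral of order prime to `p`. -/
def NC (p : ℕ) (x : G) : Prop := Reg p x ∧ x ∉ center G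

/-- Order a power of `q`. -/
def IsQEl (q : ℕ) (x : G) : Prop := ∃ k : ℕ, x ^ q ^ k = 1

/-- A prime different from `p` with a noncentral element of prime power order. -/
def NCP (p r : ℕ) (G : Type*) [Group G] : Prop :=
  r.Prime ∧ r ≠ p ∧ ∃ x : G, IsQEl r x ∧ x ∉ center G

/-- The centralizer of an element. -/
abbrev cz (x : G) : Subgroup G := centralizer ({x} : Set G)

/-- The normalizer of the centralizer. -/
abbrev nz (x : G) : Subgroup G := normalizer ((cz x : Subgroup G) : Set G)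

/-- The quotient map modulo the centre. -/
abbrev proj : G →* G ⧸ center G := QuotientGroup.mk' (center G)

/-- All noncentral classes of `p`-regular elements have size `m` and two primes occur. -/
structure Hyp (G : Type*) [Group G] (p m : ℕ) : Prop where
  prime : p.Prime
  index_eq : ∀ x : G, NC p x → (cz x).index = m
  two : ∀ q : ℕ, ∃ r : ℕ, r ≠ q ∧ NCP p r G

theorem mem_cz {x g : G} : g ∈ cz x ↔ g * x = x * g := mem_centralizer_singleton_iff

theorem self_mem_cz (x : G) : x ∈ cz x := mem_cz.2 rfl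

theorem mem_cz_symm {x g : G} (h : g ∈ cz x) : x ∈ cz g := mem_cz.2 (mem_cz.1 h).symm

theorem mem_cz_center {x g : G} (h : g ∈ center G) : g ∈ cz x := mem_cz.2 (Subgroup.mem_center_iff.1 h x).symm

theorem mem_cz_pow {x g : G} (h : g ∈ cz x) (n : ℕ) : g ∈ cz (x ^ n) :=
  mem_cz.2 (Commute.pow_right (mem_cz.1 h) n)

theorem proj_eq_one {g : G} : proj g = 1 ↔ g ∈ center G := QuotientGroup.eq_one_iff g

theorem proj_eq {g h : G} : proj g = proj h ↔ g⁻¹ * h ∈ center G := QuotientGroup.eq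

theorem cz_mul_center {x z : G} (hz : z ∈ center G) : cz (x * z) = cz x := by
  ext g
  rw [mem_cz, mem_cz]
  have h := Subgroup.mem_center_iff.1 hz g
  constructor
  · intro e
    apply mul_right_cancel (b := z)
    rw [mul_assoc, e, mul_assoc, ← h]
    group
  · intro e
    rw [← mul_assoc, e, mul_assoc, h, mul_assoc]

theorem cz_eq_of_proj {x y : G} (h : proj x = proj y) : cz x = cz y := by
  rw [show y = x * (x⁻¹ * y) by group, cz_mul_center (proj_eq.1 h)]

theorem mem_cz_conj {x a g : G} : a ∈ cz (g * x * g⁻¹) ↔ g⁻¹ * a * g ∈ cz x := by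
  rw [mem_cz, mem_cz]
  constructor <;> intro h
  · calc g⁻¹ * a * g * x = g⁻¹ * (a * (g * x * g⁻¹)) * g := by group
      _ = g⁻¹ * (g * x * g⁻¹ * a) * g := by rw [h]
      _ = x * (g⁻¹ * a * g) := by group
  · calc a * (g * x * g⁻¹) = g * (g⁻¹ * a * g * x) * g⁻¹ := by group
      _ = g * (x * (g⁻¹ * a * g)) * g⁻¹ := by rw [h]
      _ = g * x * g⁻¹ * a := by group

theorem conj_center {x g : G} : g * x * g⁻¹ ∈ center G ↔ x ∈ center G := by
  constructor <;> intro h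
  · have := (inferInstance : (center G).Normal).conj_mem _ h g⁻¹
    simpa [mul_assoc] using this
  · exact (inferInstance : (center G).Normal).conj_mem _ h g

theorem IsQEl.conj {q : ℕ} {x : G} (h : IsQEl q x) (g : G) : IsQEl q (g * x * g⁻¹) := by
  obtain ⟨k, hk⟩ := h
  exact ⟨k, by rw [conj_pow, hk, mul_one, mul_inv_cancel]⟩

theorem IsQEl.pow {q : ℕ} {x : G} (h : IsQEl q x) (n : ℕ) : IsQEl q (x ^ n) := by
  obtain ⟨k, hk⟩ := h
  exact ⟨k, by rw [← pow_mul, mul_comm, pow_mul, hk, one_pow]⟩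

theorem IsQEl.inv {q : ℕ} {x : G} (h : IsQEl q x) : IsQEl q x⁻¹ := by
  obtain ⟨k, hk⟩ := h
  exact ⟨k, by rw [inv_pow, hk, inv_one]⟩

theorem IsQEl.one (q : ℕ) : IsQEl q (1 : G) := ⟨0, one_pow _⟩

theorem IsQEl.mul {q : ℕ} {x y : G} (hx : IsQEl q x) (hy : IsQEl q y) (h : Commute x y) : IsQEl q (x * y) := by
  obtain ⟨k, hk⟩ := hx
  obtain ⟨l, hl⟩ := hy
  exact ⟨k + l, by rw [h.mul_pow, pow_add, pow_mul, hk, one_pow, mul_comm, pow_mul, hl, one_pow, one_mul]⟩

theorem IsQEl.of_mem {q : ℕ} {P : Subgroup G} (hP : IsPGroup q P) {x : G} (hx : x ∈ P) : IsQEl q x := by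
  obtain ⟨k, hk⟩ := hP ⟨x, hx⟩
  exact ⟨k, congrArg Subtype.val hk⟩

theorem IsQEl.orderOf_eq {q : ℕ} (hq : q.Prime) {x : G} (h : IsQEl q x) : ∃ i, orderOf x = q ^ i := by
  obtain ⟨k, hk⟩ := h
  obtain ⟨i, -, hi⟩ := (Nat.dvd_prime_pow hq).1 (orderOf_dvd_of_pow_eq_one hk)
  exact ⟨i, hi⟩

theorem IsQEl.coprime_of_ne {q r : ℕ} (hq : q.Prime) (hr : r.Prime) (hne : q ≠ r) {x y : G}
    (hx : IsQEl q x) (hy : IsQEl r y) : (orderOf x).Coprime (orderOf y) := by
  obtain ⟨i, hi⟩ := hx.orderOf_eq hq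
  obtain ⟨j, hj⟩ := hy.orderOf_eq hr
  rw [hi, hj]
  exact ((Nat.coprime_primes hq hr).2 hne).pow i j

theorem IsQEl.eq_one {q : ℕ} (hq : q.Prime) {x : G} (h : IsQEl q x) {n : ℕ} (hn : x ^ n = 1)
    (hqn : ¬ q ∣ n) : x = 1 := by
  obtain ⟨i, hi⟩ := h.orderOf_eq hq
  have hd := orderOf_dvd_of_pow_eq_one hn
  rw [hi] at hd
  rcases Nat.eq_zero_or_pos i with rfl | hi0
  · exact orderOf_eq_one_iff.1 (by rw [hi, pow_zero])
  · exact absurd ((dvd_pow_self q hi0.ne').trans hd) hqn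

theorem reg_of_isQEl {p q : ℕ} (hp : p.Prime) (hq : q.Prime) (hne : q ≠ p) {x : G} (h : IsQEl q x) : Reg p x := by
  obtain ⟨i, hi⟩ := h.orderOf_eq hq
  rw [Reg, hi]
  exact ((Nat.coprime_primes hq hp).2 hne).pow_left i

theorem NC.conj {p : ℕ} {x : G} (h : NC p x) (g : G) : NC p (g * x * g⁻¹) :=
  ⟨by rw [Reg, ← MulAut.conj_apply, MulEquiv.orderOf_eq]; exact h.1, fun e => h.2 (conj_center.1 e)⟩

theorem NC.mul_center {p : ℕ} {x z : G} (h : NC p x) (hz : z ∈ center G) (hr : Reg p z) : NC p (x * z) := by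
  refine ⟨?_, fun e => h.2 ?_⟩
  · exact Nat.Coprime.coprime_dvd_left
      ((Commute.orderOf_mul_dvd_lcm (Subgroup.mem_center_iff.1 hz x)).trans (Nat.lcm_dvd_mul _ _))
      (h.1.mul_left hr)
  · simpa using mul_mem e (inv_mem hz)

section Hyp

variable [Finite G] {p m : ℕ}

theorem exists_qel_power {x : G} (hp : p.Prime) (hx : NC p x) :
    ∃ q : ℕ, ∃ j : ℕ, q.Prime ∧ q ≠ p ∧ IsQEl q (x ^ j) ∧ x ^ j ∉ center G := by
  set d := orderOf (proj x) with hd
  have hd1 : d ≠ 1 := fun e => hx.2 (proj_eq_one.1 (orderOf_eq_one_iff.1 e))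
  obtain ⟨q, hq, hqd⟩ := Nat.exists_prime_and_dvd hd1
  have hdo : d ∣ orderOf x := orderOf_map_dvd _ _
  have hqp : q ≠ p := by
    rintro rfl
    exact (hp.coprime_iff_not_dvd.1 hx.1.symm) (hqd.trans hdo)
  set o := orderOf x with ho
  have ho0 : o ≠ 0 := (orderOf_pos x).ne'
  refine ⟨q, o / q ^ o.factorization q, hq, hqp, ⟨o.factorization q, ?_⟩, fun h => ?_⟩
  · rw [← pow_mul, Nat.div_mul_cancel (Nat.ordProj_dvd o q), ho, pow_orderOf_eq_one]
  · have h1 : proj x ^ (o / q ^ o.factorization q) = 1 := by rw [← map_pow]; exact proj_eq_one.2 h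
    exact Nat.not_dvd_ordCompl hq ho0 (hqd.trans (orderOf_dvd_of_pow_eq_one h1))

variable (H : Hyp G p m)
include H

theorem card_cz {x : G} (hx : NC p x) : Nat.card (cz x) * m = Nat.card G := by
  rw [← H.index_eq x hx, card_mul_index]

theorem card_cz_eq {x y : G} (hx : NC p x) (hy : NC p y) : Nat.card (cz x) = Nat.card (cz y) :=
  Nat.eq_of_mul_eq_mul_right (Nat.pos_of_ne_zero (by rw [← H.index_eq x hx]; exact index_ne_zero_of_finite))
    ((card_cz H hx).trans (card_cz H hy).symm)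

theorem cz_eq_of_le {x y : G} (hx : NC p x) (hy : NC p y) (h : cz x ≤ cz y) : cz x = cz y :=
  Subgroup.eq_of_le_of_card_ge h (card_cz_eq H hx hy).ge

theorem cz_eq_of_coprime {x y : G} (hx : NC p x) (hy : NC p y) (hc : y ∈ cz x)
    (hcop : (orderOf x).Coprime (orderOf y)) : cz x = cz y := by
  have hcomm : Commute x y := (mem_cz.1 hc).symm
  obtain ⟨e, he1, he0⟩ := Nat.chineseRemainder hcop 1 0
  have hxe : (x * y) ^ e = x := by
    rw [hcomm.mul_pow, pow_eq_pow_iff_modEq.2 he1, pow_one, pow_eq_pow_iff_modEq.2 he0, pow_zero, mul_one]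
  have hye : y = x⁻¹ * (x * y) := by group
  have hz : NC p (x * y) := by
    refine ⟨?_, fun h => hx.2 (hxe ▸ pow_mem h e)⟩
    exact Nat.Coprime.coprime_dvd_left (hcomm.orderOf_mul_dvd_lcm.trans (Nat.lcm_dvd_mul _ _))
      (hx.1.mul_left hy.1)
  have h1 : cz (x * y) ≤ cz x := fun g hg => by
    have := mem_cz_pow hg e
    rwa [hxe] at this
  have h2 : cz (x * y) ≤ cz y := fun g hg => by
    rw [mem_cz, hye]
    exact Commute.mul_right (Commute.inv_right (mem_cz.1 (h1 hg))) (mem_cz.1 hg)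
  rw [← cz_eq_of_le H hz hx h1, cz_eq_of_le H hz hy h2]

theorem exists_part {x : G} (hx : NC p x) : ∃ q : ℕ, ∃ y : G, q.Prime ∧ q ≠ p ∧ IsQEl q y ∧ NC p y ∧
    y ∈ cz x ∧ cz y = cz x ∧ ∃ j, y = x ^ j := by
  obtain ⟨q, j, hq, hqp, hj, hjc⟩ := exists_qel_power H.prime hx
  have hy : NC p (x ^ j) := ⟨reg_of_isQEl H.prime hq hqp hj, hjc⟩
  exact ⟨q, x ^ j, hq, hqp, hj, hy, pow_mem (self_mem_cz x) j,
    (cz_eq_of_le H hx hy fun g hg => mem_cz_pow hg j).symm, j, rfl⟩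

/-- Every centralizer contains noncentral elements for every such prime. -/
theorem exists_qel_mem {x : G} (hx : NC p x) {r : ℕ} (hr : NCP p r G) :
    ∃ y ∈ cz x, IsQEl r y ∧ NC p y := by
  obtain ⟨hrp, hne, y₀, hy₀, hy₀c⟩ := hr
  haveI := Fact.mk hrp
  by_contra hcon
  push Not at hcon
  obtain ⟨R⟩ : Nonempty (Sylow r ↥(cz x)) := inferInstance
  set R' := (R : Subgroup ↥(cz x)).map (cz x).subtype with hR'
  have hR'p : IsPGroup r R' := R.2.map _
  have hR'c : R' ≤ center G := by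
    intro a ha
    by_contra hac
    have ha' : IsQEl r a := IsQEl.of_mem hR'p ha
    obtain ⟨b, -, rfl⟩ := ha
    exact hcon _ b.2 ha' ⟨reg_of_isQEl H.prime hrp hne ha', hac⟩
  have hy₀' : NC p y₀ := ⟨reg_of_isQEl H.prime hrp hne hy₀, hy₀c⟩
  haveI : R'.Normal := ⟨fun a ha g => by
    rw [(Subgroup.mem_center_iff.1 (hR'c ha) g), mul_inv_cancel_right]
    exact ha⟩
  have hzp : IsPGroup r (zpowers y₀) := by
    obtain ⟨i, hi⟩ := hy₀.orderOf_eq hrp
    exact IsPGroup.of_card (n := i) (by rw [Nat.card_zpowers, hi])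
  have hS : IsPGroup r ↥(zpowers y₀ ⊔ R') := hzp.to_sup_of_normal_right hR'p
  have hle : zpowers y₀ ⊔ R' ≤ cz y₀ :=
    sup_le (zpowers_le.2 (self_mem_cz y₀)) fun a ha => mem_cz_center (hR'c ha)
  have hd := card_dvd_of_le hle
  rw [← card_cz_eq H hx hy₀'] at hd
  obtain ⟨i, hi⟩ := hS.exists_card_eq
  have hcard : Nat.card ↥(zpowers y₀ ⊔ R') ∣ Nat.card R' := by
    rw [hR', ← Nat.card_congr ((R : Subgroup ↥(cz x)).equivMapOfInjective _ (cz x).subtype_injective).toEquiv,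
      R.card_eq_multiplicity]
    rw [hi] at hd ⊢
    exact pow_dvd_pow r ((Nat.Prime.pow_dvd_iff_le_factorization hrp Nat.card_pos.ne').1 hd)
  have heq : R' = zpowers y₀ ⊔ R' :=
    Subgroup.eq_of_le_of_card_ge le_sup_right (Nat.le_of_dvd Nat.card_pos hcard)
  exact hy₀c (hR'c (heq ▸ mem_sup_left (mem_zpowers y₀)))

/-- Noncentral `p`-regular elements commute only when their centralizers agree. -/
theorem cz_eq {x y : G} (hx : NC p x) (hy : NC p y) (h : y ∈ cz x) : cz y = cz x := by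
  obtain ⟨q₁, x', hq₁, hq₁p, hx'q, hx', -, hx'e, -⟩ := exists_part H hx
  obtain ⟨q₂, y', hq₂, hq₂p, hy'q, hy', -, hy'e, j, hj⟩ := exists_part H hy
  have hy'x : y' ∈ cz x' := by
    rw [hx'e, hj]; exact pow_mem h j
  by_cases hne : q₁ = q₂
  · subst hne
    obtain ⟨r, hr, hrn⟩ := H.two q₁
    obtain ⟨z, hz, hzq, hzn⟩ := exists_qel_mem H hx' hrn
    have h1 := cz_eq_of_coprime H hx' hzn hz (IsQEl.coprime_of_ne hq₁ hrn.1 (Ne.symm hr) hx'q hzq)
    have h2 := cz_eq_of_coprime H hzn hy' (h1 ▸ hy'x) (IsQEl.coprime_of_ne hrn.1 hq₁ hr hzq hy'q)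
    rw [← hy'e, ← h2, ← h1, hx'e]
  · rw [← hy'e, ← cz_eq_of_coprime H hx' hy' hy'x (IsQEl.coprime_of_ne hq₁ hq₂ hne hx'q hy'q), hx'e]

/-- The `p`-regular part of a centralizer is central in it. -/
theorem commute_of_mem {x y g : G} (hx : NC p x) (hy : y ∈ cz x) (hyr : Reg p y) (hg : g ∈ cz x) :
    g * y = y * g := by
  by_cases hyc : y ∈ center G
  · exact Subgroup.mem_center_iff.1 hyc g
  · rw [← cz_eq H hx ⟨hyr, hyc⟩ hy] at hg
    exact mem_cz.1 hg

theorem semireg {x y g : G} (hx : NC p x) (hy : NC p y) (hyx : y ∈ cz x) (hg : g * y = y * g) : g ∈ cz x := by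
  rw [← cz_eq H hx hy hyx]
  exact mem_cz.2 hg

theorem mem_nz_of_conj {x y g : G} (hx : NC p x) (hy : NC p y) (hyx : y ∈ cz x)
    (hg : g * y * g⁻¹ ∈ cz x) : g ∈ nz x := by
  have h1 := cz_eq H hx hy hyx
  have h2 := cz_eq H hx (hy.conj g) hg
  rw [Subgroup.mem_normalizer_iff]
  intro h
  conv_rhs => rw [← h2, mem_cz_conj, show g⁻¹ * (g * h * g⁻¹) * g = h by group]
  rw [h1]

theorem conj_mem_cz {x y g : G} (hg : g ∈ nz x) (hy : y ∈ cz x) : g * y * g⁻¹ ∈ cz x :=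
  (Subgroup.mem_normalizer_iff.1 hg y).1 hy

/-- An element translating a noncentral element by the centre normalizes its centralizer. -/
theorem mem_nz_of_proj {x g : G} (hx : NC p x) (h : proj (g * x * g⁻¹) = proj x) : g ∈ nz x :=
  mem_nz_of_conj H hx hx (self_mem_cz x) (by
    have := cz_eq_of_proj h
    rw [← this]
    exact self_mem_cz _)

end Hyp

/-- The elements of `q`-power order central in the centralizer of `x`. -/
def qpart (q : ℕ) (x : G) : Subgroup G where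
  carrier := {g | g ∈ cz x ∧ g ∈ centralizer ((cz x : Subgroup G) : Set G) ∧ IsQEl q g}
  one_mem' := ⟨one_mem _, one_mem _, IsQEl.one q⟩
  mul_mem' := fun {a b} ha hb => ⟨mul_mem ha.1 hb.1, mul_mem ha.2.1 hb.2.1,
    ha.2.2.mul hb.2.2 ((Subgroup.mem_centralizer_iff.1 ha.2.1 b hb.1).symm)⟩
  inv_mem' := fun {a} ha => ⟨inv_mem ha.1, inv_mem ha.2.1, ha.2.2.inv⟩

/-- Central elements of `q`-power order. -/
def qcenter (q : ℕ) (G : Type*) [Group G] : Subgroup G where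
  carrier := {g | g ∈ center G ∧ IsQEl q g}
  one_mem' := ⟨one_mem _, IsQEl.one q⟩
  mul_mem' := fun {a b} ha hb => ⟨mul_mem ha.1 hb.1,
    ha.2.mul hb.2 (Subgroup.mem_center_iff.1 hb.1 a)⟩
  inv_mem' := fun {a} ha => ⟨inv_mem ha.1, ha.2.inv⟩

/-- The image of `qpart` modulo the centre. -/
def qimage (q : ℕ) (x : G) : Subgroup (G ⧸ center G) := (qpart q x).map proj

theorem qpart_congr {q : ℕ} {x y : G} (h : cz x = cz y) : qpart q x = qpart q y := by
  ext g
  show (_ ∧ _ ∧ _) ↔ (_ ∧ _ ∧ _)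
  rw [h]

theorem isPGroup_qpart (q : ℕ) (x : G) : IsPGroup q (qpart q x) := fun g => by
  obtain ⟨k, hk⟩ := g.2.2.2
  exact ⟨k, Subtype.ext hk⟩

theorem qpart_comm {q : ℕ} {x a b : G} (ha : a ∈ qpart q x) (hb : b ∈ qpart q x) : a * b = b * a :=
  Subgroup.mem_centralizer_iff.1 hb.2.1 a ha.1

theorem conj_qpart {q : ℕ} {x g a : G} (hg : g ∈ nz x) (ha : a ∈ qpart q x) :
    g * a * g⁻¹ ∈ qpart q x := by
  refine ⟨(Subgroup.mem_normalizer_iff.1 hg a).1 ha.1, ?_, ha.2.2.conj g⟩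
  rw [Subgroup.mem_centralizer_iff]
  intro c hc
  have hc' : g⁻¹ * c * g ∈ cz x := by
    have := (Subgroup.mem_normalizer_iff.1 (inv_mem hg) c).1 hc
    simpa using this
  have h := Subgroup.mem_centralizer_iff.1 ha.2.1 _ hc'
  calc c * (g * a * g⁻¹) = g * (g⁻¹ * c * g * a) * g⁻¹ := by group
    _ = g * (a * (g⁻¹ * c * g)) * g⁻¹ := by rw [h]
    _ = g * a * g⁻¹ * c := by group

theorem isPGroup_qimage (q : ℕ) (x : G) : IsPGroup q (qimage q x) := (isPGroup_qpart q x).map _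

theorem qcenter_le (q : ℕ) (x : G) : qcenter q G ≤ qpart q x := fun g hg =>
  ⟨mem_cz_center hg.1, Subgroup.mem_centralizer_iff.2 fun c _ => Subgroup.mem_center_iff.1 hg.1 c, hg.2⟩

theorem conj_qimage {q : ℕ} {x g : G} (hg : g ∈ nz x) {y : G ⧸ center G} (hy : y ∈ qimage q x) :
    proj g * y * (proj g)⁻¹ ∈ qimage q x := by
  obtain ⟨a, ha, rfl⟩ := hy
  exact ⟨_, conj_qpart hg ha, by simp⟩

section Hyp

variable [Finite G] {p m : ℕ} (H : Hyp G p m)
include H

theorem mem_qpart {q : ℕ} (hq : q.Prime) (hqp : q ≠ p) {x g : G} (hx : NC p x) (hg : g ∈ cz x)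
    (hgq : IsQEl q g) : g ∈ qpart q x :=
  ⟨hg, Subgroup.mem_centralizer_iff.2 fun _ hc => commute_of_mem H hx hg (reg_of_isQEl H.prime hq hqp hgq) hc, hgq⟩

theorem nc_of_mem_qpart {q : ℕ} (hq : q.Prime) (hqp : q ≠ p) {x g : G} (hg : g ∈ qpart q x)
    (hgc : g ∉ center G) : NC p g :=
  ⟨reg_of_isQEl H.prime hq hqp hg.2.2, hgc⟩

theorem exists_mem_qpart {q : ℕ} (hq : NCP p q G) {x : G} (hx : NC p x) : ∃ a ∈ qpart q x, NC p a := by
  obtain ⟨y, hy, hyq, hyn⟩ := exists_qel_mem H hx hq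
  exact ⟨y, mem_qpart H hq.1 hq.2.1 hx hy hyq, hyn⟩

theorem card_qpart {q : ℕ} (hq : q.Prime) (hqp : q ≠ p) {x : G} (hx : NC p x) :
    Nat.card (qpart q x) = q ^ (Nat.card (cz x)).factorization q := by
  haveI := Fact.mk hq
  obtain ⟨R⟩ : Nonempty (Sylow q ↥(cz x)) := inferInstance
  have hR : (R : Subgroup ↥(cz x)).map (cz x).subtype ≤ qpart q x := by
    rintro _ ⟨a, ha, rfl⟩
    exact mem_qpart H hq hqp hx a.2 (IsQEl.of_mem (R.2.map (cz x).subtype) ⟨a, ha, rfl⟩)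
  have h1 := card_dvd_of_le hR
  rw [← Nat.card_congr ((R : Subgroup ↥(cz x)).equivMapOfInjective _ (cz x).subtype_injective).toEquiv,
    R.card_eq_multiplicity] at h1
  have h2 : Nat.card (qpart q x) ∣ Nat.card (cz x) := card_dvd_of_le fun g hg => hg.1
  obtain ⟨i, hi⟩ := (isPGroup_qpart q x).exists_card_eq
  rw [hi] at h1 h2 ⊢
  exact Nat.dvd_antisymm (pow_dvd_pow q ((Nat.Prime.pow_dvd_iff_le_factorization hq Nat.card_pos.ne').1 h2)) h1

theorem card_qpart_eq {q : ℕ} (hq : q.Prime) (hqp : q ≠ p) {x y : G} (hx : NC p x) (hy : NC p y) :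
    Nat.card (qpart q x) = Nat.card (qpart q y) := by
  rw [card_qpart H hq hqp hx, card_qpart H hq hqp hy, card_cz_eq H hx hy]

omit H in
theorem card_qimage_mul (q : ℕ) (x : G) :
    Nat.card (qimage q x) * Nat.card (qcenter q G) = Nat.card (qpart q x) := by
  let f : ↥(qpart q x) →* G ⧸ center G := proj.comp (qpart q x).subtype
  have hr : f.range = qimage q x := by
    rw [MonoidHom.range_comp, Subgroup.range_subtype]
    rfl
  have hk : f.ker = (qcenter q G).subgroupOf (qpart q x) := by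
    ext g
    rw [MonoidHom.mem_ker, mem_subgroupOf]
    show proj (g : G) = 1 ↔ _
    rw [proj_eq_one]
    exact ⟨fun h => ⟨h, g.2.2.2⟩, fun h => h.1⟩
  have h := f.ker.index_mul_card
  rw [Subgroup.index_ker, hr, hk, Nat.card_congr (subgroupOfEquivOfLe (qcenter_le q x)).toEquiv] at h
  exact h

theorem card_qimage_eq {q : ℕ} (hq : q.Prime) (hqp : q ≠ p) {x y : G} (hx : NC p x) (hy : NC p y) :
    Nat.card (qimage q x) = Nat.card (qimage q y) := by
  apply Nat.eq_of_mul_eq_mul_right (Nat.card_pos : 0 < Nat.card (qcenter q G))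
  rw [card_qimage_mul, card_qimage_mul, card_qpart_eq H hq hqp hx hy]

theorem qimage_ne_bot {q : ℕ} (hq : NCP p q G) {x : G} (hx : NC p x) : qimage q x ≠ ⊥ := fun h => by
  obtain ⟨a, ha, han⟩ := exists_mem_qpart H hq hx
  exact han.2 (proj_eq_one.1 ((Subgroup.eq_bot_iff_forall _).1 h _ ⟨a, ha, rfl⟩))

end Hyp

end CfsgLib.RegularTwoSizes
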