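import Cfsg.Agent.Lib.RegularTwoSizes.Action
import Cfsg.Agent.Lib.CharTheory.BrauerSuzuki

/-!
Counting `p`-regular elements: all centralizers are conjugate, their normalizer has `p`-power index, and only
the prime `2` can divide the class size besides `p`.
-/

set_option autoImplicit false

namespace CfsgLib.RegularTwoSizes

open Subgroup

variable {G : Type*} [Group G] {p m : ℕ}

theorem Reg.mul {x y : G} (hx : Reg p x) (hy : Reg p y) (h : Commute x y) : Reg p (x * y) :=
  Nat.Coprime.coprime_dvd_left (h.orderOf_mul_dvd_lcm.trans (Nat.lcm_dvd_mul _ _)) (Nat.Coprime.mul_left hx hy)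

theorem Reg.one : Reg p (1 : G) := by rw [Reg, orderOf_one]; exact Nat.coprime_one_left p

theorem Reg.inv {x : G} (hx : Reg p x) : Reg p x⁻¹ := by rw [Reg, orderOf_inv]; exact hx

/-- The elements of order prime to `p` central in the centralizer of `x`. -/
def regPart (p : ℕ) (x : G) : Subgroup G where
  carrier := {g | g ∈ cz x ∧ g ∈ centralizer ((cz x : Subgroup G) : Set G) ∧ Reg p g}
  one_mem' := ⟨one_mem _, one_mem _, Reg.one⟩
  mul_mem' := fun {a b} ha hb => ⟨mul_mem ha.1 hb.1, mul_mem ha.2.1 hb.2.1,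
    ha.2.2.mul hb.2.2 ((Subgroup.mem_centralizer_iff.1 ha.2.1 b hb.1).symm)⟩
  inv_mem' := fun {a} ha => ⟨inv_mem ha.1, inv_mem ha.2.1, ha.2.2.inv⟩

/-- Central elements of order prime to `p`. -/
def regCenter (p : ℕ) (G : Type*) [Group G] : Subgroup G where
  carrier := {g | g ∈ center G ∧ Reg p g}
  one_mem' := ⟨one_mem _, Reg.one⟩
  mul_mem' := fun {a b} ha hb => ⟨mul_mem ha.1 hb.1,
    ha.2.mul hb.2 (Subgroup.mem_center_iff.1 hb.1 a)⟩
  inv_mem' := fun {a} ha => ⟨inv_mem ha.1, ha.2.inv⟩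

theorem regCenter_le (p : ℕ) (x : G) : regCenter p G ≤ regPart p x := fun g hg =>
  ⟨mem_cz_center hg.1, Subgroup.mem_centralizer_iff.2 fun c _ => Subgroup.mem_center_iff.1 hg.1 c, hg.2⟩

variable [Finite G] (H : Hyp G p m)
include H

theorem exists_nc : ∃ x : G, NC p x := by
  obtain ⟨r, -, hr, hrp, y, hy, hyc⟩ := H.two 0
  exact ⟨y, reg_of_isQEl H.prime hr hrp hy, hyc⟩

theorem m_ne_zero : m ≠ 0 := by
  obtain ⟨x, hx⟩ := exists_nc H
  rw [← H.index_eq x hx]
  exact index_ne_zero_of_finite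

theorem mem_regPart {x g : G} (hx : NC p x) (hg : g ∈ cz x) (hr : Reg p g) : g ∈ regPart p x :=
  ⟨hg, Subgroup.mem_centralizer_iff.2 fun _ hc => commute_of_mem H hx hg hr hc, hr⟩

theorem factorization_card {x : G} (hx : NC p x) (q : ℕ) :
    (Nat.card G).factorization q = (Nat.card (cz x)).factorization q + m.factorization q := by
  rw [← card_cz H hx, Nat.factorization_mul Nat.card_pos.ne' (m_ne_zero H), Finsupp.add_apply]

theorem factorization_of_not_dvd {x : G} (hx : NC p x) {q : ℕ} (hq : ¬ q ∣ m) :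
    (Nat.card G).factorization q = (Nat.card (cz x)).factorization q := by
  rw [factorization_card H hx, Nat.factorization_eq_zero_of_not_dvd hq, add_zero]

theorem ncp_of_dvd {q : ℕ} (hq : q.Prime) (hqp : q ≠ p) (hqm : q ∣ m) : NCP p q G := by
  haveI := Fact.mk hq
  refine ⟨hq, hqp, ?_⟩
  by_contra hcon
  push Not at hcon
  obtain ⟨x, hx⟩ := exists_nc H
  obtain ⟨Q⟩ : Nonempty (Sylow q G) := inferInstance
  have h1 := card_dvd_of_le (show (Q : Subgroup G) ≤ cz x from fun g hg =>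
    mem_cz_center (hcon g (IsQEl.of_mem Q.2 hg)))
  rw [Q.card_eq_multiplicity, Nat.Prime.pow_dvd_iff_le_factorization hq Nat.card_pos.ne',
    factorization_card H hx] at h1
  have := hq.factorization_pos_of_dvd (m_ne_zero H) hqm
  omega

theorem dvd_pred {q r : ℕ} (hq : NCP p q G) (hqm : q ∣ m) (hr : NCP p r G) (hrm : r ∣ m)
    (hr2 : r ≠ 2) (hqr : q ≠ r) : q ∣ r - 1 := by
  classical
  haveI := Fact.mk hq.1
  obtain ⟨x, hx⟩ := exists_nc H
  obtain ⟨u, hu, hun, hux, huq⟩ := exists_normalizing H hq hqm hx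
  have hcard : Nat.card (qimage r x) = r := card_qimage_odd H hr hr2 hrm hx
  have hU : proj u ^ q = 1 := by rw [← map_pow]; exact proj_eq_one.2 huq
  let f : Function.End ↥(qimage r x) := fun y => ⟨proj u * y * (proj u)⁻¹, conj_qimage hun y.2⟩
  have hf : ∀ (k : ℕ) (y : ↥(qimage r x)),
      (((f ^ k : Function.End ↥(qimage r x)) y : ↥(qimage r x)) : G ⧸ center G) =
        proj u ^ k * y * (proj u ^ k)⁻¹ := by
    intro k
    induction k with
    | zero => intro y; simp; rfl
    | succ k ih =>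
      intro y
      rw [pow_succ' f]
      show proj u * _ * (proj u)⁻¹ = _
      rw [ih, pow_succ']
      group
  have hfq : f ^ q ^ 1 = 1 := by
    funext y
    refine Subtype.ext ?_
    rw [pow_one, hf, hU]
    simp
    rfl
  haveI := Fintype.ofFinite ↥(qimage r x)
  have hmod := Equiv.Perm.card_fixedPoints_modEq hfq
  have hfix : Fintype.card ↥(Function.fixedPoints f) = 1 := by
    refine Fintype.card_eq_one_iff.2 ⟨⟨1, Subtype.ext (by simp [f])⟩, fun y => Subtype.ext (Subtype.ext ?_)⟩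
    obtain ⟨⟨Y, hY⟩, hy⟩ := y
    obtain ⟨b, hb, rfl⟩ := hY
    show proj b = 1
    rw [proj_eq_one]
    by_contra hbc
    have h1 : proj (u * b * u⁻¹) = proj b := by
      have := congrArg Subtype.val hy
      simpa [f] using this
    obtain ⟨ζ, hζ, h2⟩ := exists_translate h1
    have hζr : IsQEl r ζ := by
      have : ζ = b⁻¹ * (u * b * u⁻¹) := by rw [h2, inv_mul_cancel_left]
      rw [this]
      exact (mul_mem (inv_mem hb) (conj_qpart hun hb)).2.2
    have h3 := hζr.eq_one hr.1 (translate_comm_pow h2 hζ (Subgroup.mem_center_iff.1 huq b).symm)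
      fun hd => hqr ((Nat.prime_dvd_prime_iff_eq hr.1 hq.1).1 hd).symm
    rw [h3, mul_one] at h2
    exact hux (semireg H hx (nc_of_mem_qpart H hr.1 hr.2.1 hb hbc) hb.1 (mul_inv_eq_iff_eq_mul.1 h2))
  rw [hfix, ← Nat.card_eq_fintype_card, hcard] at hmod
  exact (Nat.modEq_iff_dvd' hr.1.one_le).1 hmod.symm

theorem exists_not_dvd : ∃ r : ℕ, NCP p r G ∧ ¬ r ∣ m := by
  by_contra hcon
  push Not at hcon
  obtain ⟨x, hx⟩ := exists_nc H
  obtain ⟨q, -, hq⟩ := H.two 0
  obtain ⟨r, hrq, hr⟩ := H.two q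
  have key : ∀ s, NCP p s G → s ≠ 2 → NCP p 2 G → False := by
    intro s hs hs2 h2
    obtain ⟨u, hu, hun, hux, huq⟩ := exists_normalizing H hs (hcon s hs) hx
    have h := (mul_mem_of_two H h2 (hcon 2 h2) hx).1 u hun
    obtain ⟨t, ht⟩ : ∃ t, s = 2 * t + 1 := ⟨s / 2, by have := hs.1.eq_two_or_odd.resolve_left hs2; omega⟩
    refine hux ?_
    have he : u = ((u * u) ^ t)⁻¹ * u ^ s := by
      rw [← pow_two, ← pow_mul, ht, pow_succ, inv_mul_cancel_left]
    rw [he]
    exact mul_mem (inv_mem (pow_mem h t)) (mem_cz_center huq)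
  by_cases hq2 : q = 2
  · exact key r hr (fun e => hrq (e.trans hq2.symm)) (hq2 ▸ hq)
  by_cases hr2 : r = 2
  · exact key q hq hq2 (hr2 ▸ hr)
  have h1 := dvd_pred H hq (hcon q hq) hr (hcon r hr) hr2 (Ne.symm hrq)
  have h2 := dvd_pred H hr (hcon r hr) hq (hcon q hq) hq2 hrq
  have := hq.1.two_le
  have := hr.1.two_le
  have := Nat.le_of_dvd (by omega) h1
  have := Nat.le_of_dvd (by omega) h2
  omega

theorem exists_conj {x y : G} (hx : NC p x) (hy : NC p y) : ∃ g : G, cz (g * x * g⁻¹) = cz y := by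
  obtain ⟨r, hr, hrm⟩ := exists_not_dvd H
  haveI := Fact.mk hr.1
  have hc : ∀ w : G, NC p w → Nat.card (qpart r w) = r ^ (Nat.card G).factorization r := fun w hw => by
    rw [card_qpart H hr.1 hr.2.1 hw, factorization_of_not_dvd H hw hrm]
  obtain ⟨g, hg⟩ := MulAction.exists_smul_eq G (Sylow.ofCard (qpart r x) (hc x hx))
    (Sylow.ofCard (qpart r y) (hc y hy))
  obtain ⟨a, ha, han⟩ := exists_mem_qpart H hr hx
  have hga : g * a * g⁻¹ ∈ qpart r y := by
    have h' : g * a * g⁻¹ ∈ ((g • Sylow.ofCard (qpart r x) (hc x hx) : Sylow r G) : Subgroup G) := by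
      rw [Sylow.smul_def, Sylow.pointwise_smul_def]
      refine Subgroup.mem_pointwise_smul_iff_inv_smul_mem.2 ?_
      simp [mul_assoc]
      exact ha
    rw [hg] at h'
    simpa using h'
  refine ⟨g, ?_⟩
  rw [← cz_eq H hy (han.conj g) hga.1]
  refine (cz_eq H (han.conj g) (hx.conj g) (mem_cz_conj.2 ?_))
  rw [show g⁻¹ * (g * x * g⁻¹) * g = x by group]
  exact mem_cz_symm ha.1

theorem card_nc {x : G} (hx : NC p x) :
    Nat.card {y : G // NC p y} =
      (nz x).index * (Nat.card (regPart p x) - Nat.card (regCenter p G)) := by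
  classical
  have h1 : Nat.card {a : G // NC p a ∧ a ∈ cz x} = Nat.card (regPart p x) - Nat.card (regCenter p G) := by
    have he : {a : G | NC p a ∧ a ∈ cz x} = (regPart p x : Set G) \ (regCenter p G : Set G) := by
      ext a
      constructor
      · exact fun h => ⟨mem_regPart H hx h.2 h.1.1, fun h' => h.1.2 h'.1⟩
      · exact fun h => ⟨⟨h.1.2.2, fun hc => h.2 ⟨hc, h.1.2.2⟩⟩, h.1.1⟩
    rw [show Nat.card {a : G // NC p a ∧ a ∈ cz x} = {a : G | NC p a ∧ a ∈ cz x}.ncard from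
      (Nat.card_coe_set_eq _), he, Set.ncard_sdiff (regCenter_le p x)]
    rfl
  rw [← h1, Subgroup.index, ← Nat.card_prod]
  refine (Nat.card_eq_of_bijective (fun s : (G ⧸ nz x) × {a : G // NC p a ∧ a ∈ cz x} =>
    (⟨s.1.out * s.2 * s.1.out⁻¹, s.2.2.1.conj _⟩ : {y : G // NC p y})) ⟨?_, ?_⟩).symm
  · rintro ⟨c, a, ha, hax⟩ ⟨d, b, hb, hbx⟩ he
    have he' : c.out * a * c.out⁻¹ = d.out * b * d.out⁻¹ := congrArg Subtype.val he
    have hcd : d.out⁻¹ * c.out ∈ nz x := by
      refine mem_nz_of_conj H hx ha hax ?_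
      rw [show d.out⁻¹ * c.out * a * (d.out⁻¹ * c.out)⁻¹ = d.out⁻¹ * (c.out * a * c.out⁻¹) * d.out by group,
        he', show d.out⁻¹ * (d.out * b * d.out⁻¹) * d.out = b by group]
      exact hbx
    have hcd' : d = c := by
      rw [← QuotientGroup.out_eq' c, ← QuotientGroup.out_eq' d]
      exact QuotientGroup.eq.2 hcd
    subst hcd'
    exact Prod.ext rfl (Subtype.ext (mul_left_cancel (mul_right_cancel he')))
  · rintro ⟨y, hy⟩
    obtain ⟨g, hg⟩ := exists_conj H hx hy
    set o := (QuotientGroup.mk g : G ⧸ nz x).out with ho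
    obtain ⟨k, hk⟩ := QuotientGroup.mk_out_eq_mul (nz x) g
    have hyg : g⁻¹ * y * g ∈ cz x := mem_cz_conj.1 (hg ▸ self_mem_cz y)
    have hmem : o⁻¹ * y * o ∈ cz x := by
      have h := conj_mem_cz H (inv_mem k.2) hyg
      rw [ho, hk]
      rwa [show ((k : G))⁻¹ * (g⁻¹ * y * g) * ((k : G))⁻¹⁻¹ = (g * (k : G))⁻¹ * y * (g * (k : G)) by group] at h
    refine ⟨(QuotientGroup.mk g, ⟨o⁻¹ * y * o, ?_, hmem⟩), Subtype.ext ?_⟩
    · simpa using hy.conj o⁻¹
    · show o * (o⁻¹ * y * o) * o⁻¹ = y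
      group

theorem card_reg {x : G} (hx : NC p x) :
    Nat.card {g : G // Reg p g} = Nat.card (regCenter p G) +
      (nz x).index * (Nat.card (regPart p x) - Nat.card (regCenter p G)) := by
  rw [← card_nc H hx]
  have h := (Set.ncard_inter_add_ncard_sdiff_eq_ncard {g : G | Reg p g} (center G : Set G)).symm
  have he : {g : G | Reg p g} ∩ (center G : Set G) = (regCenter p G : Set G) := by
    ext g; exact ⟨fun h => ⟨h.2, h.1⟩, fun h => ⟨h.2, h.1⟩⟩
  rw [he] at h
  exact h

/-- Frobenius' theorem applied to the elements of order prime to `p`. -/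
theorem dvd_card_reg {q : ℕ} (hq : q.Prime) (hqp : q ≠ p) :
    q ^ (Nat.card G).factorization q ∣ Nat.card {g : G // Reg p g} := by
  have hG : Nat.card G ≠ 0 := Nat.card_pos.ne'
  set a := (Nat.card G).factorization p with ha
  have hmn : Nat.card G = Nat.card G / p ^ a * p ^ a := (Nat.div_mul_cancel (Nat.ordProj_dvd _ p)).symm
  have hcop : Nat.Coprime (Nat.card G / p ^ a) (p ^ a) := ((Nat.coprime_ordCompl H.prime hG).pow_left a).symm
  have h := CfsgLib.CharTheory.dvd_card_coprime_order hmn hcop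
  have he : Nat.card {g : G // Nat.Coprime (orderOf g) (p ^ a)} = Nat.card {g : G // Reg p g} := by
    refine Nat.card_congr (Equiv.subtypeEquivRight fun g => ⟨fun hg => ?_, fun hg => Nat.Coprime.pow_right a hg⟩)
    rcases Nat.eq_zero_or_pos a with h0 | h0
    · refine ((H.prime.coprime_iff_not_dvd).2 fun hd => ?_).symm
      have := H.prime.factorization_pos_of_dvd hG (hd.trans (orderOf_dvd_natCard g))
      omega
    · exact (Nat.coprime_pow_right_iff h0 _ _).1 hg
  rw [he] at h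
  refine dvd_trans ?_ h
  have h2 : q ^ (Nat.card G).factorization q ∣ Nat.card G / p ^ a * p ^ a := hmn ▸ Nat.ordProj_dvd _ q
  exact (((Nat.coprime_primes hq H.prime).2 hqp).pow _ _).dvd_of_dvd_mul_right h2

theorem not_dvd_index_nz {q : ℕ} (hq : q.Prime) (hqp : q ≠ p) {x : G} (hx : NC p x) : ¬ q ∣ (nz x).index := by
  intro hqn
  haveI := Fact.mk hq
  have hnm : (nz x).index ∣ m := H.index_eq x hx ▸ index_dvd_of_le Subgroup.le_normalizer
  have hN := ncp_of_dvd H hq hqp (hqn.trans hnm)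
  obtain ⟨a, hca⟩ : ∃ a, Nat.card (qcenter q G) = q ^ a := by
    refine IsPGroup.exists_card_eq (fun g => ?_)
    obtain ⟨k, hk⟩ := g.2.2
    exact ⟨k, Subtype.ext hk⟩
  set b := (Nat.card (cz x)).factorization q with hb
  have hab : a < b := by
    obtain ⟨c, hc, hcn⟩ := exists_mem_qpart H hN hx
    have hlt : Nat.card (qcenter q G) < Nat.card (qpart q x) := by
      refine lt_of_le_of_ne (Nat.le_of_dvd Nat.card_pos (card_dvd_of_le (qcenter_le q x))) fun e => ?_
      exact hcn.2 ((Subgroup.eq_of_le_of_card_ge (qcenter_le q x) e.ge).ge hc).1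
    rw [hca, card_qpart H hq hqp hx] at hlt
    exact (Nat.pow_lt_pow_iff_right hq.one_lt).1 hlt
  have hα : q ^ b ∣ Nat.card (regPart p x) := by
    rw [hb, ← card_qpart H hq hqp hx]
    exact card_dvd_of_le fun g hg => ⟨hg.1, hg.2.1, reg_of_isQEl H.prime hq hqp hg.2.2⟩
  have hz : q ^ a ∣ Nat.card (regCenter p G) := by
    rw [← hca]
    exact card_dvd_of_le fun g hg => ⟨hg.1, reg_of_isQEl H.prime hq hqp hg.2⟩
  have htot : q ^ (a + 1) ∣ Nat.card {g : G // Reg p g} :=
    (pow_dvd_pow q (by rw [factorization_card H hx, ← hb]; omega)).trans (dvd_card_reg H hq hqp)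
  rw [card_reg H hx] at htot
  have hmul : q ^ (a + 1) ∣ (nz x).index * (Nat.card (regPart p x) - Nat.card (regCenter p G)) := by
    rw [pow_succ']
    exact mul_dvd_mul hqn (Nat.dvd_sub ((pow_dvd_pow q hab.le).trans hα) hz)
  obtain ⟨K, hK⟩ := Sylow.exists_subgroup_card_pow_prime (G := ↥(regCenter p G)) q
    ((Nat.dvd_add_left hmul).1 htot)
  have hle : K.map (regCenter p G).subtype ≤ qcenter q G := by
    rintro _ ⟨k, hk, rfl⟩
    exact ⟨k.2.1, IsQEl.of_mem ((IsPGroup.of_card hK).map _) ⟨k, hk, rfl⟩⟩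
  have h2 := card_dvd_of_le hle
  rw [Subgroup.card_map_of_injective (regCenter p G).subtype_injective, hK, hca] at h2
  exact absurd ((Nat.pow_dvd_pow_iff_le_right hq.one_lt).1 h2) (by omega)

theorem index_nz_pow {x : G} (hx : NC p x) : ∃ e : ℕ, (nz x).index = p ^ e :=
  ⟨_, Nat.eq_prime_pow_of_unique_prime_dvd index_ne_zero_of_finite fun {q} hq hd => by
    by_contra hne; exact not_dvd_index_nz H hq hne hx hd⟩

/-- An odd prime other than `p` does not divide the class size. -/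
theorem not_dvd_odd {q : ℕ} (hq : q.Prime) (hq2 : q ≠ 2) (hqp : q ≠ p) : ¬ q ∣ m := by
  classical
  intro hqm
  haveI := Fact.mk hq
  haveI : Fact (Nat.Prime 2) := ⟨Nat.prime_two⟩
  have hN := ncp_of_dvd H hq hqp hqm
  obtain ⟨x, hx⟩ := exists_nc H
  have hnv : (Nat.card (nz x)).factorization q = (Nat.card G).factorization q := by
    rw [← (nz x).card_mul_index, Nat.factorization_mul Nat.card_pos.ne' index_ne_zero_of_finite,
      Finsupp.add_apply, Nat.factorization_eq_zero_of_not_dvd (not_dvd_index_nz H hq hqp hx), add_zero]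
  -- a Sylow subgroup between the `q`-part and the normalizer
  have hqN : qpart q x ≤ nz x := fun g hg => Subgroup.le_normalizer hg.1
  obtain ⟨Q₀, hQ₀⟩ := ((isPGroup_qpart q x).comap_of_injective (nz x).subtype
    (nz x).subtype_injective).exists_le_sylow
  have hcQ : Nat.card ↥((Q₀ : Subgroup ↥(nz x)).map (nz x).subtype) = q ^ (Nat.card G).factorization q := by
    rw [Subgroup.card_map_of_injective (nz x).subtype_injective, Q₀.card_eq_multiplicity, hnv]
  set Q : Sylow q G := Sylow.ofCard _ hcQ with hQdef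
  have hQn : ∀ v ∈ (Q : Subgroup G), v ∈ nz x := by
    rintro _ ⟨v, -, rfl⟩; exact v.2
  have hAQ : qpart q x ≤ (Q : Subgroup G) := fun g hg => ⟨⟨g, hqN hg⟩, hQ₀ hg, rfl⟩
  have hQel : ∀ v ∈ (Q : Subgroup G), IsQEl q v := fun v hv => IsQEl.of_mem Q.2 hv
  have hA2 : ∀ a ∈ qpart q x, proj a ^ q = 1 := fun a ha => by
    have h := orderOf_dvd_natCard (⟨proj a, ⟨a, ha, rfl⟩⟩ : ↥(qimage q x))
    rw [card_qimage_odd H hN hq2 hqm hx, ← orderOf_coe] at h
    exact orderOf_dvd_iff_pow_eq_one.1 h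
  have hQq : ∀ v ∈ (Q : Subgroup G), v ^ q ∈ center G := by
    intro v hv
    by_cases hvx : v ∈ cz x
    · rw [← proj_eq_one, map_pow]; exact hA2 v (mem_qpart H hq hqp hx hvx (hQel v hv))
    obtain ⟨K, hK⟩ := hQel v hv
    have hex : ∃ k, v ^ q ^ k ∈ cz x := ⟨K, hK ▸ one_mem _⟩
    have hk0 : Nat.find hex ≠ 0 := fun e => hvx (by simpa [e] using Nat.find_spec hex)
    have hk1 : Nat.find hex = 1 := by
      by_contra hne
      obtain ⟨j, hj⟩ : ∃ j, Nat.find hex = j + 2 := ⟨Nat.find hex - 2, by omega⟩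
      have he : v ^ q ^ (j + 1) ∉ cz x := Nat.find_min hex (by omega)
      have hen : NC p (v ^ q ^ (j + 1)) := nc_of_notMem_cz H.prime hq hqp ((hQel v hv).pow _) he
      have hw : v ^ q ^ j ∈ qpart q (v ^ q ^ (j + 1)) :=
        mem_qpart H hq hqp hen (mem_cz.2 (Commute.pow_pow_self v _ _)) ((hQel v hv).pow _)
      have h := orderOf_dvd_natCard
        (⟨proj (v ^ q ^ j), ⟨_, hw, rfl⟩⟩ : ↥(qimage q (v ^ q ^ (j + 1))))
      rw [card_qimage_odd H hN hq2 hqm hen, ← orderOf_coe] at h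
      have h1 : proj (v ^ q ^ (j + 1)) = 1 := by
        rw [pow_succ, pow_mul, map_pow]; exact orderOf_dvd_iff_pow_eq_one.1 h
      exact hen.2 (proj_eq_one.1 h1)
    have h1 := Nat.find_spec hex
    rw [hk1, pow_one] at h1
    exact pow_mem_center H hq hqp hx (hQel v hv) hvx h1
  -- an element of the Sylow subgroup outside the centralizer, central modulo it
  have hout : ∃ v ∈ (Q : Subgroup G), v ∉ cz x := by
    by_contra hcon
    push Not at hcon
    have h1 := card_dvd_of_le (show (Q : Subgroup G) ≤ cz x from hcon)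
    rw [Q.card_eq_multiplicity, Nat.Prime.pow_dvd_iff_le_factorization hq Nat.card_pos.ne',
      factorization_card H hx] at h1
    have := hq.factorization_pos_of_dvd (m_ne_zero H) hqm
    omega
  obtain ⟨u, huQ, hux, hucen⟩ : ∃ u ∈ (Q : Subgroup G), u ∉ cz x ∧
      ∀ h ∈ (Q : Subgroup G), u * h * (h * u)⁻¹ ∈ cz x := by
    set K : Subgroup ↥(Q : Subgroup G) := (cz x).subgroupOf Q with hKdef
    haveI : K.Normal := ⟨fun k hk g => by
      rw [hKdef, mem_subgroupOf] at hk ⊢
      exact conj_mem_cz H (hQn g g.2) hk⟩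
    obtain ⟨v, hvQ, hvx⟩ := hout
    haveI : Nontrivial (↥(Q : Subgroup G) ⧸ K) := ⟨⟨QuotientGroup.mk ⟨v, hvQ⟩, 1, fun e => hvx (by
      have := (QuotientGroup.eq_one_iff _).1 e
      rwa [hKdef, mem_subgroupOf] at this)⟩⟩
    haveI := (Q.2.to_quotient K).center_nontrivial
    obtain ⟨⟨c, hc⟩, hcne⟩ := exists_ne (1 : center (↥(Q : Subgroup G) ⧸ K))
    obtain ⟨u', rfl⟩ := QuotientGroup.mk_surjective c
    refine ⟨u', u'.2, fun h => hcne (Subtype.ext ((QuotientGroup.eq_one_iff _).2 (by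
      rw [hKdef, mem_subgroupOf]; exact h))), fun h hh => ?_⟩
    have h1 := Subgroup.mem_center_iff.1 hc (QuotientGroup.mk ⟨h, hh⟩)
    rw [← QuotientGroup.mk_mul, ← QuotientGroup.mk_mul] at h1
    have h2 : u' * ⟨h, hh⟩ * (⟨h, hh⟩ * u')⁻¹ ∈ K := by
      rw [← QuotientGroup.eq_one_iff, QuotientGroup.mk_mul, QuotientGroup.mk_inv, ← h1, mul_inv_cancel]
    rwa [hKdef, mem_subgroupOf] at h2
  have huq := hQq u huQ
  -- the image modulo the centre is elementary abelian of order `q ^ 2`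
  have hcoset : ∀ h ∈ (Q : Subgroup G), ∃ i : ℕ, ∃ c ∈ qpart q x, u ^ i * h = c := by
    intro h hh
    obtain ⟨i, hi⟩ := exists_pow_mul_mem H hq hx (hQn u huQ) (hQn h hh) hux (mem_cz_center huq)
      (mem_cz_center (hQq h hh)) (hucen h hh)
    exact ⟨i, _, mem_qpart H hq hqp hx hi (hQel _ (mul_mem (pow_mem huQ i) hh)), rfl⟩
  obtain ⟨b, hb, hbc, hbq, hbf, hbo⟩ := exists_fixed H hN hx (hQn u huQ) hux huq
  have hAz : qimage q x = zpowers (proj b) := by
    refine (Subgroup.eq_of_le_of_card_ge (zpowers_le.2 (Subgroup.mem_map_of_mem proj hb : proj b ∈ qimage q x)) ?_).symm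
    show Nat.card ↥(qimage q x) ≤ _
    rw [Nat.card_zpowers, hbo, card_qimage_odd H hN hq2 hqm hx]
  have hbf' : Commute (proj u) (proj b) := by
    simp only [map_mul, map_inv] at hbf
    exact mul_inv_eq_iff_eq_mul.1 hbf
  set E : Subgroup (G ⧸ center G) := (Q : Subgroup G).map proj with hEdef
  have hEgen : ∀ e ∈ E, ∃ i : ℤ, ∃ j : ℤ, e = proj u ^ i * proj b ^ j := by
    rintro _ ⟨h, hh, rfl⟩
    obtain ⟨i, c, hc, hi⟩ := hcoset h hh
    have hcz : proj c ∈ qimage q x := Subgroup.mem_map_of_mem proj hc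
    rw [hAz] at hcz
    obtain ⟨j, hj⟩ := mem_zpowers_iff.1 hcz
    refine ⟨-(i : ℤ), j, ?_⟩
    rw [hj, ← hi, map_mul, map_pow, zpow_neg, zpow_natCast, inv_mul_cancel_left]
  have hEcomm : ∀ s ∈ (Q : Subgroup G), ∀ t ∈ (Q : Subgroup G), Commute (proj s) (proj t) := by
    intro s hs t ht
    obtain ⟨i, j, e1⟩ := hEgen _ ⟨s, hs, rfl⟩
    obtain ⟨i', j', e2⟩ := hEgen _ ⟨t, ht, rfl⟩
    rw [e1, e2]
    exact ((Commute.zpow_zpow_self _ i i').mul_left ((hbf'.symm).zpow_zpow j i')).mul_right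
      ((hbf'.zpow_zpow i j').mul_left (Commute.zpow_zpow_self _ j j'))
  have hEfix : ∀ s ∈ (Q : Subgroup G), ∀ t ∈ (Q : Subgroup G), proj (s * t * s⁻¹) = proj t := by
    intro s hs t ht
    rw [map_mul, map_mul, map_inv, (hEcomm s hs t ht).eq, mul_inv_cancel_right]
  have hcardE : Nat.card E = q * q := by
    have hU : orderOf (proj u) = q := orderOf_eq_prime (by rw [← map_pow]; exact proj_eq_one.2 huq)
      fun h => hux (mem_cz_center (proj_eq_one.1 h))
    have hUA : ∀ y ∈ zpowers (proj u), y ∈ qimage q x → y = 1 := by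
      intro y hy hyA
      by_contra hne
      have hle : zpowers y ≤ zpowers (proj u) := zpowers_le.2 hy
      have h1 : orderOf y ∣ q := by
        have := card_dvd_of_le hle
        rwa [Nat.card_zpowers, Nat.card_zpowers, hU] at this
      rcases (Nat.dvd_prime hq).1 h1 with h | h
      · exact hne (orderOf_eq_one_iff.1 h)
      have heq : zpowers y = zpowers (proj u) :=
        Subgroup.eq_of_le_of_card_ge hle (by rw [Nat.card_zpowers, Nat.card_zpowers, h, hU])
      obtain ⟨c, hc, hce⟩ := (zpowers_le.2 hyA) (heq ▸ mem_zpowers (proj u) : proj u ∈ zpowers y)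
      exact hux ((cz_eq_of_proj hce ▸ mem_cz_symm hc.1 : x ∈ cz u) |> mem_cz_symm)
    rw [show q * q = Nat.card ↥(zpowers (proj u)) * Nat.card ↥(qimage q x) by
      rw [Nat.card_zpowers, hU, card_qimage_odd H hN hq2 hqm hx], ← Nat.card_prod]
    refine (Nat.card_eq_of_bijective (fun s : ↥(zpowers (proj u)) × ↥(qimage q x) =>
      (⟨(s.1 : G ⧸ center G) * s.2, mul_mem (zpowers_le.2 (⟨u, huQ, rfl⟩ : proj u ∈ E) s.1.2)
        (Subgroup.map_mono hAQ s.2.2)⟩ : E)) ⟨?_, ?_⟩).symm
    · rintro ⟨a, c⟩ ⟨a', c'⟩ he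
      have he' : (a : G ⧸ center G) * c = a' * c' := congrArg Subtype.val he
      have h0 := hUA _ (mul_mem (inv_mem a'.2) a.2) (by
        rw [show (a' : G ⧸ center G)⁻¹ * a = c' * (c : G ⧸ center G)⁻¹ by
          rw [eq_mul_inv_iff_mul_eq, mul_assoc, he', inv_mul_cancel_left]]
        exact mul_mem c'.2 (inv_mem c.2))
      have ha : a = a' := Subtype.ext (inv_mul_eq_one.1 h0).symm
      subst ha
      exact Prod.ext rfl (Subtype.ext (mul_left_cancel he'))
    · rintro ⟨e, he⟩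
      obtain ⟨i, j, hij⟩ := hEgen e he
      exact ⟨(⟨_, zpow_mem (mem_zpowers _) i⟩, ⟨_, zpow_mem (Subgroup.mem_map_of_mem proj hb : proj b ∈ qimage q x) j⟩), Subtype.ext hij.symm⟩
  have hline : ∀ t ∈ (Q : Subgroup G), t ∉ center G → qimage q t = zpowers (proj t) := by
    intro t ht htc
    have htn : NC p t := ⟨reg_of_isQEl H.prime hq hqp (hQel t ht), htc⟩
    refine (Subgroup.eq_of_le_of_card_ge
      (zpowers_le.2 (Subgroup.mem_map_of_mem proj (mem_qpart H hq hqp htn (self_mem_cz t) (hQel t ht)) :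
        proj t ∈ qimage q t)) ?_).symm
    show Nat.card ↥(qimage q t) ≤ _
    rw [card_qimage_odd H hN hq2 hqm htn, Nat.card_zpowers,
      orderOf_eq_prime (by rw [← map_pow]; exact proj_eq_one.2 (hQq t ht)) (fun h => htc (proj_eq_one.1 h))]
  -- no element of 2-power order normalizing `Q` moves its image
  set N : Subgroup G := normalizer ((Q : Subgroup G) : Set G) with hNdef
  have hstep : ∀ k ∈ N, IsQEl 2 k →
      (∀ t ∈ (Q : Subgroup G), proj (k * k * t * (k * k)⁻¹) = proj t) →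
      ∀ t ∈ (Q : Subgroup G), proj (k * t * k⁻¹) = proj t := by
    intro k hk hk2el hkk e he
    by_contra hne
    have he' : k * e * k⁻¹ ∈ (Q : Subgroup G) := (Subgroup.mem_normalizer_iff.1 hk e).1 he
    set d := e⁻¹ * (k * e * k⁻¹) with hddef
    have hd : d ∈ (Q : Subgroup G) := mul_mem (inv_mem he) he'
    have hdc : d ∉ center G := fun h => hne (proj_eq.2 h).symm
    have hdn : NC p d := ⟨reg_of_isQEl H.prime hq hqp (hQel d hd), hdc⟩
    have hkd : proj (k * d * k⁻¹) = proj d⁻¹ := by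
      rw [hddef, show k * (e⁻¹ * (k * e * k⁻¹)) * k⁻¹ = (k * e * k⁻¹)⁻¹ * (k * k * e * (k * k)⁻¹) by group,
        map_mul, map_inv, hkk e he, ← map_inv, ← map_mul]
      congr 1
      group
    have hk2 : k * k ∈ cz d := by
      obtain ⟨η, hη, h2⟩ := exists_translate (hkk d hd)
      obtain ⟨K, hK⟩ := hk2el
      have h3 : η ^ 2 ^ K = 1 := translate_comm_pow h2 hη (by
        rw [← pow_two, ← pow_mul, mul_comm 2, pow_mul, hK, one_pow, one_mul, mul_one])
      have h4 : η ^ q = 1 := translate_pow_exp h2 hη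
        (by rw [Subgroup.mem_center_iff.1 (hQq d hd), mul_inv_cancel_right])
      have h5 : η = 1 := by
        rw [← orderOf_eq_one_iff]
        exact Nat.eq_one_of_dvd_coprimes (((Nat.coprime_primes Nat.prime_two hq).2 (Ne.symm hq2)).pow_left _)
          (orderOf_dvd_of_pow_eq_one h3) (orderOf_dvd_of_pow_eq_one h4)
      rw [h5, mul_one] at h2
      exact mem_cz.2 (mul_inv_eq_iff_eq_mul.1 h2)
    by_cases hex : ∃ v ∈ (Q : Subgroup G), v ∉ cz d ∧ proj (k * v * k⁻¹) = proj v
    · obtain ⟨v, hv, hvd, hvk⟩ := hex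
      exact no_inversion H hq hq2 hdn (hQq d hd) hkd hk2 hvd (hQq v hv) (hEfix v hv d hd)
        (Or.inl (mem_cz_center (proj_eq.1 hvk.symm)))
    push Not at hex
    obtain ⟨v, hv, hvd⟩ : ∃ v ∈ (Q : Subgroup G), v ∉ cz d := by
      by_contra hcon
      push Not at hcon
      have h1 := card_dvd_of_le (show E ≤ qimage q d by
        rintro _ ⟨t, ht, rfl⟩; exact ⟨t, mem_qpart H hq hqp hdn (hcon t ht) (hQel t ht), rfl⟩)
      rw [hcardE, card_qimage_odd H hN hq2 hqm hdn] at h1
      have h2 := Nat.le_of_dvd hq.pos h1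
      have := Nat.mul_le_mul_left q hq.two_le
      have := hq.pos
      omega
    refine no_inversion H hq hq2 hdn (hQq d hd) hkd hk2 hvd (hQq v hv) (hEfix v hv d hd) (Or.inr ?_)
    have hv' : k * v * k⁻¹ ∈ (Q : Subgroup G) := (Subgroup.mem_normalizer_iff.1 hk v).1 hv
    by_contra hnot
    refine hex _ (mul_mem hv hv') hnot ?_
    rw [show k * (v * (k * v * k⁻¹)) * k⁻¹ = k * v * k⁻¹ * (k * k * v * (k * k)⁻¹) by group,
      map_mul proj (k * v * k⁻¹), hkk v hv, map_mul proj v, (hEcomm _ hv' v hv).eq]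
  have hfixall : ∀ K : ℕ, ∀ k ∈ N, k ^ 2 ^ K = 1 → ∀ t ∈ (Q : Subgroup G), proj (k * t * k⁻¹) = proj t := by
    intro K
    induction K with
    | zero => intro k _ hk1 t _; rw [pow_zero, pow_one] at hk1; simp [hk1]
    | succ K ih =>
      intro k hk hk1
      exact hstep k hk ⟨_, hk1⟩ (ih _ (mul_mem hk hk)
        (by rw [← pow_two, ← pow_mul, ← pow_succ']; exact hk1))
  have htwo : ∀ k ∈ N, IsQEl 2 k → k ∈ nz x := by
    intro k hk hk2
    obtain ⟨K, hK⟩ := hk2
    have hbn := nc_of_mem_qpart H hq hqp hb hbc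
    refine mem_nz_of_conj H hx hbn hb.1 ?_
    have := cz_eq_of_proj (hfixall K k hk hK b (hAQ hb))
    rw [← cz_eq H hx hbn hb.1, ← this]
    exact self_mem_cz _
  -- the lines and their number
  have hbn := nc_of_mem_qpart H hq hqp hb hbc
  have hcb : cz b = cz x := cz_eq H hx hbn hb.1
  have hnzb : ∀ g, g ∈ nz x → g ∈ nz b := fun g hg => by show g ∈ normalizer ((cz b : Subgroup G) : Set G); rw [hcb]; exact hg
  have hodd : ¬ 2 ∣ ((nz x).subgroupOf N).index := by
    obtain ⟨T⟩ : Nonempty (Sylow 2 ↥N) := inferInstance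
    intro h2
    refine T.not_dvd_index (h2.trans (index_dvd_of_le fun t ht => ?_))
    rw [mem_subgroupOf]
    exact htwo t t.2 (IsQEl.of_mem (T.2.map N.subtype) ⟨t, ht, rfl⟩)
  have htrans : ∀ t ∈ (Q : Subgroup G), t ∉ center G → ∃ g ∈ N, cz (g * b * g⁻¹) = cz t := by
    intro t ht htc
    have htn : NC p t := ⟨reg_of_isQEl H.prime hq hqp (hQel t ht), htc⟩
    obtain ⟨g₀, hg₀⟩ := exists_conj H hbn htn
    have hQt : (Q : Subgroup G) ≤ nz t := fun v hv => mem_nz_of_proj H htn (hEfix v hv t ht)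
    have hQg : ((g₀ • Q : Sylow q G) : Subgroup G) ≤ nz t := by
      intro w hw
      rw [Sylow.smul_def, Sylow.pointwise_smul_def, Subgroup.mem_pointwise_smul_iff_inv_smul_mem] at hw
      simp [mul_assoc] at hw
      refine mem_nz_of_conj H htn (hbn.conj g₀) (hg₀ ▸ self_mem_cz _) ?_
      rw [← hg₀, mem_cz_conj, show g₀⁻¹ * (w * (g₀ * b * g₀⁻¹) * w⁻¹) * g₀ =
        g₀⁻¹ * (w * g₀) * b * (g₀⁻¹ * (w * g₀))⁻¹ by group]
      exact conj_mem_cz H (hnzb _ (hQn _ hw)) (self_mem_cz b)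
    obtain ⟨h, hh⟩ := MulAction.exists_smul_eq ↥(nz t) ((g₀ • Q).subtype hQg) (Q.subtype hQt)
    refine ⟨h * g₀, ?_, ?_⟩
    · rw [hNdef]
      refine Subgroup.mem_normalizer_fintype fun v hv => ?_
      have hw : g₀ * v * g₀⁻¹ ∈ ((g₀ • Q : Sylow q G) : Subgroup G) := by
        rw [Sylow.smul_def, Sylow.pointwise_smul_def, Subgroup.mem_pointwise_smul_iff_inv_smul_mem]
        simp [mul_assoc]
        exact hv
      have h' : h * ⟨g₀ * v * g₀⁻¹, hQg hw⟩ * h⁻¹ ∈
          ((h • (g₀ • Q).subtype hQg : Sylow q ↥(nz t)) : Subgroup ↥(nz t)) := by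
        rw [Sylow.smul_def (g := h), Sylow.pointwise_smul_def, Subgroup.mem_pointwise_smul_iff_inv_smul_mem]
        simp [mul_assoc, mem_subgroupOf]
        simpa [mul_assoc] using hw
      rw [hh] at h'
      simp [mem_subgroupOf] at h'
      simp [mul_assoc] at h' ⊢
      exact h'
    · have hmem : g₀ * b * g₀⁻¹ ∈ cz t := hg₀ ▸ self_mem_cz _
      rw [show (h : G) * g₀ * b * ((h : G) * g₀)⁻¹ = (h : G) * (g₀ * b * g₀⁻¹) * (h : G)⁻¹ by group]
      exact cz_eq H htn ((hbn.conj g₀).conj _) (conj_mem_cz H h.2 hmem)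
  haveI := Fintype.ofFinite (G ⧸ center G)
  set S : Finset (G ⧸ center G) := Finset.univ.filter (fun e => e ∈ E ∧ e ≠ 1) with hSdef
  set f : G ⧸ center G → Subgroup G := fun e => cz e.out with hfdef
  have hf : ∀ t, f (proj t) = cz t := fun t => cz_eq_of_proj (QuotientGroup.out_eq' (proj t))
  have hfib : ∀ e₀ ∈ S, (S.filter fun e => f e = f e₀).card + 1 = q := by
    intro e₀ he₀
    simp only [hSdef, Finset.mem_filter, Finset.mem_univ, true_and] at he₀
    obtain ⟨⟨t, ht, rfl⟩, ht1⟩ := he₀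
    have htc : t ∉ center G := fun h => ht1 (proj_eq_one.2 h)
    have htn : NC p t := ⟨reg_of_isQEl H.prime hq hqp (hQel t ht), htc⟩
    have he : insert 1 (S.filter fun e => f e = f (proj t)) =
        Finset.univ.filter (fun e => e ∈ zpowers (proj t)) := by
      ext e
      simp only [hSdef, Finset.mem_insert, Finset.mem_filter, Finset.mem_univ, true_and]
      constructor
      · rintro (rfl | ⟨⟨⟨s, hs, rfl⟩, hs1⟩, hse⟩)
        · exact one_mem _
        · rw [hf, hf] at hse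
          rw [← hline t ht htc]
          exact ⟨s, mem_qpart H hq hqp htn (hse ▸ self_mem_cz s) (hQel s hs), rfl⟩
      · intro he
        by_cases he1 : e = 1
        · exact Or.inl he1
        obtain ⟨i, rfl⟩ := mem_zpowers_iff.1 he
        rw [← map_zpow] at he1 ⊢
        refine Or.inr ⟨⟨⟨_, zpow_mem ht i, rfl⟩, he1⟩, ?_⟩
        rw [hf, hf]
        exact cz_eq H htn ⟨reg_of_isQEl H.prime hq hqp (hQel _ (zpow_mem ht i)),
          fun h => he1 (proj_eq_one.2 h)⟩ (zpow_mem (self_mem_cz t) i)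
    have h1 := congrArg Finset.card he
    rw [Finset.card_insert_of_notMem (by simp [hSdef])] at h1
    rw [h1, ← Fintype.card_subtype, ← Nat.card_eq_fintype_card]
    show Nat.card ↥(zpowers (proj t)) = q
    rw [Nat.card_zpowers,
      orderOf_eq_prime (by rw [← map_pow]; exact proj_eq_one.2 (hQq t ht)) ht1]
  have hScard : S.card + 1 = q * q := by
    have he : insert 1 S = Finset.univ.filter (fun e => e ∈ E) := by
      ext e
      simp only [hSdef, Finset.mem_insert, Finset.mem_filter, Finset.mem_univ, true_and]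
      by_cases h : e = 1
      · simp [h, one_mem]
      · simp [h]
    have h1 := congrArg Finset.card he
    rw [Finset.card_insert_of_notMem (by simp [hSdef])] at h1
    rw [h1, ← Fintype.card_subtype, ← Nat.card_eq_fintype_card]
    exact hcardE
  have hLcard : (S.image f).card = ((nz x).subgroupOf N).index := by
    rw [Subgroup.index, ← Nat.card_eq_finsetCard]
    have hmemL : ∀ g ∈ N, cz (g * b * g⁻¹) ∈ S.image f := fun g hg => by
      refine Finset.mem_image.2 ⟨proj (g * b * g⁻¹), ?_, hf _⟩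
      simp only [hSdef, Finset.mem_filter, Finset.mem_univ, true_and]
      exact ⟨⟨_, (Subgroup.mem_normalizer_iff.1 hg b).1 (hAQ hb), rfl⟩,
        fun h => (hbn.conj g).2 (proj_eq_one.1 h)⟩
    refine (Nat.card_eq_of_bijective (fun c : ↥N ⧸ (nz x).subgroupOf N =>
      (⟨_, hmemL c.out c.out.2⟩ : ↥(S.image f))) ⟨?_, ?_⟩).symm
    · intro c d he
      have he' : cz ((c.out : G) * b * (c.out : G)⁻¹) = cz ((d.out : G) * b * (d.out : G)⁻¹) :=
        congrArg Subtype.val he
      rw [← QuotientGroup.out_eq' c, ← QuotientGroup.out_eq' d]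
      refine (QuotientGroup.eq.2 ?_).symm
      rw [mem_subgroupOf]
      refine mem_nz_of_conj H hx hbn hb.1 ?_
      have h1 := mem_cz_conj.1 (he' ▸ self_mem_cz ((c.out : G) * b * (c.out : G)⁻¹))
      rw [hcb] at h1
      simpa [mul_assoc] using h1
    · rintro ⟨L, hL⟩
      obtain ⟨e, he, rfl⟩ := Finset.mem_image.1 hL
      simp only [hSdef, Finset.mem_filter, Finset.mem_univ, true_and] at he
      obtain ⟨⟨t, ht, rfl⟩, ht1⟩ := he
      obtain ⟨g, hg, hgt⟩ := htrans t ht fun h => ht1 (proj_eq_one.2 h)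
      refine ⟨QuotientGroup.mk ⟨g, hg⟩, Subtype.ext ?_⟩
      set o := (QuotientGroup.mk ⟨g, hg⟩ : ↥N ⧸ (nz x).subgroupOf N).out with ho
      show cz ((o : G) * b * (o : G)⁻¹) = f (proj t)
      obtain ⟨k, hk⟩ := QuotientGroup.mk_out_eq_mul ((nz x).subgroupOf N) ⟨g, hg⟩
      have ho' : (o : G) = g * ((k : ↥N) : G) := by rw [ho, hk]; rfl
      rw [hf, ← hgt, ho']
      refine cz_eq H (hbn.conj g) (hbn.conj _) ?_
      rw [mem_cz_conj, show g⁻¹ * (g * ((k : ↥N) : G) * b * (g * ((k : ↥N) : G))⁻¹) * g =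
        ((k : ↥N) : G) * b * ((k : ↥N) : G)⁻¹ by group]
      exact conj_mem_cz H (hnzb _ (mem_subgroupOf.1 k.2)) (self_mem_cz b)
  have hsum : S.card = (S.image f).card * (q - 1) := by
    rw [Finset.card_eq_sum_card_image f S, Finset.sum_const_nat]
    intro L hL
    obtain ⟨e, he, rfl⟩ := Finset.mem_image.1 hL
    have := hfib e he
    omega
  have hL : (S.image f).card = q + 1 := by
    have h1 : (S.image f).card * (q - 1) = (q + 1) * (q - 1) := by
      rw [← hsum, ← Nat.sq_sub_sq q 1]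
      simp only [pow_two]
      omega
    exact Nat.eq_of_mul_eq_mul_right (by have := hq.two_le; omega) h1
  rw [← hLcard, hL] at hodd
  have := hq.eq_two_or_odd.resolve_left hq2
  omega

theorem prime_dvd_cases {q : ℕ} (hq : q.Prime) (hqm : q ∣ m) : q = p ∨ q = 2 := by
  by_contra h
  push Not at h
  exact not_dvd_odd H hq h.2 h.1 hqm

theorem not_dvd_card_regPart (x : G) : ¬ p ∣ Nat.card (regPart p x) := by
  intro hd
  haveI := Fact.mk H.prime
  obtain ⟨g, hg⟩ := exists_prime_orderOf_dvd_card' p hd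
  have h := g.2.2.2
  rw [Reg, orderOf_coe, hg, Nat.coprime_self] at h
  exact H.prime.ne_one h

/-- The abelian complement, when no prime besides `p` divides the class size. -/
theorem exists_complement_of_odd (h : ∀ q : ℕ, q.Prime → q ≠ p → ¬ q ∣ m) :
    ∃ K : Subgroup G, IsMulCommutative K ∧ ¬ p ∣ Nat.card K ∧ ∃ k : ℕ, K.index = p ^ k := by
  obtain ⟨x, hx⟩ := exists_nc H
  refine ⟨regPart p x, ⟨⟨fun a b => Subtype.ext (Subgroup.mem_centralizer_iff.1 b.2.2.1 a a.2.1)⟩⟩,
    not_dvd_card_regPart H x, _, Nat.eq_prime_pow_of_unique_prime_dvd index_ne_zero_of_finite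
    fun {q} hq hd => ?_⟩
  by_contra hne
  haveI := Fact.mk hq
  have h1 : q ^ (Nat.card G).factorization q ∣ Nat.card (regPart p x) := by
    rw [factorization_of_not_dvd H hx (h q hq hne), ← card_qpart H hq hne hx]
    exact card_dvd_of_le fun g hg => ⟨hg.1, hg.2.1, reg_of_isQEl H.prime hq hne hg.2.2⟩
  have h2 := mul_dvd_mul h1 hd
  rw [← pow_succ, card_mul_index] at h2
  have := (Nat.Prime.pow_dvd_iff_le_factorization hq Nat.card_pos.ne').1 h2
  omega

end CfsgLib.RegularTwoSizes
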